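import Mathlib.RingTheory.Flat.Basic
import Mathlib.RingTheory.TensorProduct.Basic
import Mathlib.LinearAlgebra.TensorProduct.Tower

/-!
# Modules with a coaction along a flat algebra
-/

set_option autoImplicit false
set_option linter.style.haveILetI false

open TensorProduct

universe u

namespace Groth.L19.ModDescent

variable {R S : Type u} [CommRing R] [CommRing S] [Algebra R S] [Module.Flat R S]
  {N : Type u} [AddCommGroup N] [Module R N] [Module S N] [IsScalarTower R S N]

/-- The fixed points of a coaction. -/
def fixed (c : N →ₗ[R] S ⊗[R] N) : Submodule R N := LinearMap.ker (c - TensorProduct.mk R S N 1)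

theorem bijective_of_coaction (c : N →ₗ[R] S ⊗[R] N) (hc : ∀ (s : S) (n : N), c (s • n) = s • c n)
    (hcu : ∀ n, LinearMap.liftBaseChange S (LinearMap.id : N →ₗ[R] N) (c n) = n)
    (hcc : ∀ n, c.lTensor S (c n) = (TensorProduct.mk R S N 1).lTensor S (c n)) :
    Function.Bijective (LinearMap.liftBaseChange S (fixed c).subtype) := by
  let θ := LinearMap.liftBaseChange S (fixed c).subtype
  let incl : S ⊗[R] fixed c →ₗ[R] S ⊗[R] N := (fixed c).subtype.lTensor S
  have hinj : Function.Injective incl :=
    Module.Flat.lTensor_preserves_injective_linearMap _ Subtype.val_injective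
  have hfix : ∀ m : fixed c, c m = (1 : S) ⊗ₜ[R] (m : N) := fun m =>
    sub_eq_zero.mp (m.2 : (c - TensorProduct.mk R S N 1) m = 0)
  have hθ : ∀ z, c (θ z) = incl z := fun z => by
    induction z using TensorProduct.induction_on with
    | zero => simp
    | tmul s m => simp [θ, incl, hc, hfix, smul_tmul']
    | add x y hx hy => simp only [map_add, hx, hy]
  have hmult : ∀ z, LinearMap.liftBaseChange S (LinearMap.id : N →ₗ[R] N) (incl z) = θ z := fun z => by
    induction z using TensorProduct.induction_on with
    | zero => simp
    | tmul s m => simp [θ, incl]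
    | add x y hx hy => simp only [map_add, hx, hy]
  refine ⟨fun a b h => hinj (by rw [← hθ a, ← hθ b]; exact congrArg c h), fun n => ?_⟩
  have hex := Module.Flat.lTensor_exact (M := S)
    (LinearMap.exact_subtype_ker_map (c - TensorProduct.mk R S N 1))
  obtain ⟨w, hw⟩ := (hex (c n)).mp (by rw [LinearMap.lTensor_sub, LinearMap.sub_apply, hcc, sub_self])
  exact ⟨w, by rw [← hcu n, ← hw]; exact (hmult w).symm⟩

end Groth.L19.ModDescent
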