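import Groth.Agent.L19.ModDescent.Maps
import Groth.Agent.L19.ModDescent.Coaction

/-!
# The coaction of a descent datum
-/

set_option autoImplicit false
set_option linter.style.haveILetI false

open CategoryTheory TensorProduct

universe u

namespace Groth.L19.ModDescent

variable {R S : Type u} [CommRing R] [CommRing S] [Algebra R S] (E : Datum R S)
  [Module R E.N] [IsScalarTower R S E.N]

/-- The coaction `n ↦ φ (1 ⊗ n)`. -/
noncomputable def coact : E.N →ₗ[R] S ⊗[R] E.N where
  toFun n := Φ R E.N (E.hom (S ⊗[R] S) (inL R) (inR R) (inL_comp R) (el (inL R) E.N 1 n))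
  map_add' n n' := by rw [el_add, map_add, map_add]
  map_smul' r n := by
    rw [← algebraMap_smul S r n, el_smul, mul_one, el_eq_smul, map_smul, Φ_smul, algebraMap_smul]
    rfl

theorem coact_apply (n : E.N) :
    coact E n = Φ R E.N (E.hom (S ⊗[R] S) (inL R) (inR R) (inL_comp R) (el (inL R) E.N 1 n)) := rfl

theorem coact_smul (s : S) (n : E.N) : coact E (s • n) = s • coact E n := by
  rw [coact_apply, coact_apply, el_smul, mul_one, el_eq_smul, map_smul, Φ_smul]

theorem hom_univ (n : E.N) :
    E.hom (S ⊗[R] S) (inL R) (inR R) (inL_comp R) (el (inL R) E.N 1 n) =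
      Ψ R E.N (inL R) (inR R) (inL_comp R) (coact E n) :=
  (Ψ_Φ R E.N _).symm

/-- A descent datum is determined by its coaction. -/
theorem hom_eq (U : Type u) [CommRing U] (g1 g2 : S →+* U)
    (hg : g1.comp (algebraMap R S) = g2.comp (algebraMap R S)) (n : E.N) :
    E.hom U g1 g2 hg (el g1 E.N 1 n) = Ψ R E.N g1 g2 hg (coact E n) := by
  letI : Algebra R U := (g1.comp (algebraMap R S)).toAlgebra
  let a1 : S →ₐ[R] U := ⟨g1, fun r => rfl⟩
  let a2 : S →ₐ[R] U := ⟨g2, fun r => (RingHom.congr_fun hg r).symm⟩
  let k : S ⊗[R] S →+* U := (Algebra.TensorProduct.lift a1 a2 fun _ _ => Commute.all _ _).toRingHom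
  have e1 : k.comp (inL R) = g1 := RingHom.ext fun s => by
    show Algebra.TensorProduct.lift a1 a2 (fun _ _ => Commute.all _ _) (s ⊗ₜ[R] (1 : S)) = g1 s
    rw [Algebra.TensorProduct.lift_tmul, map_one, mul_one]
    rfl
  have e2 : k.comp (inR R) = g2 := RingHom.ext fun s => by
    show Algebra.TensorProduct.lift a1 a2 (fun _ _ => Commute.all _ _) ((1 : S) ⊗ₜ[R] s) = g2 s
    rw [Algebra.TensorProduct.lift_tmul, map_one, one_mul]
    rfl
  rw [E.pull (S ⊗[R] S) U k (inL R) (inR R) g1 g2 e1 e2 (inL_comp R) hg n, hom_univ]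
  generalize coact E n = z
  induction z using TensorProduct.induction_on with
  | zero => rw [map_zero, map_zero, map_zero]
  | tmul s m => rw [Ψ_tmul, Ψ_tmul, push_el, ← RingHom.comp_apply k, e1]
  | add x y hx hy => rw [map_add, map_add, map_add, hx, hy]

theorem coact_counit (n : E.N) :
    LinearMap.liftBaseChange S (LinearMap.id : E.N →ₗ[R] E.N) (coact E n) = n := by
  have h := congrArg (ev E.N) (hom_eq E S (RingHom.id S) (RingHom.id S) rfl n)
  rw [E.self, ev_el, one_smul] at h
  refine Eq.trans ?_ h.symm
  generalize coact E n = z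
  induction z using TensorProduct.induction_on with
  | zero => simp
  | tmul s m => rw [LinearMap.liftBaseChange_tmul, Ψ_tmul, ev_el]; rfl
  | add x y hx hy => simp only [map_add, hx, hy]

theorem coact_coassoc (n : E.N) :
    (coact E).lTensor S (coact E n) = (TensorProduct.mk R S E.N 1).lTensor S (coact E n) := by
  have h := E.comp _ (in1 R) (in2 R) (in3 R) (in12_comp R) (in23_comp R) (el (in1 R) E.N 1 n)
  rw [hom_eq, hom_eq] at h
  have hL : ∀ z, Ξ R E.N (E.hom _ (in2 R) (in3 R) (in23_comp R) (Ψ R E.N (in1 R) (in2 R) (in12_comp R) z)) =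
      (coact E).lTensor S z := fun z => by
    induction z using TensorProduct.induction_on with
    | zero => simp
    | tmul s m =>
      rw [Ψ_tmul, el_eq_smul, map_smul, hom_eq, LinearMap.lTensor_tmul]
      generalize coact E m = y
      induction y using TensorProduct.induction_on with
      | zero => simp
      | tmul s' m' =>
        rw [Ψ_tmul, smul_el, Ξ_el, in1_apply, in2_apply, Algebra.TensorProduct.tmul_mul_tmul,
          Algebra.TensorProduct.tmul_mul_tmul]
        simp [act_apply]
      | add x y hx hy => simp only [map_add, smul_add, tmul_add, hx, hy]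
    | add x y hx hy => simp only [map_add, hx, hy]
  have hR : ∀ z, Ξ R E.N (Ψ R E.N (in1 R) (in3 R) ((in12_comp R).trans (in23_comp R)) z) =
      (TensorProduct.mk R S E.N 1).lTensor S z := fun z => by
    induction z using TensorProduct.induction_on with
    | zero => simp
    | tmul s m =>
      rw [Ψ_tmul, LinearMap.lTensor_tmul, Ξ_el, in1_apply]
      simp [act_apply]
    | add x y hx hy => simp only [map_add, hx, hy]
  have := congrArg (Ξ R E.N) h
  rwa [hL, hR] at this

/-- A descent datum is trivial on the fixed elements of its coaction. -/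
theorem hom_fixed (U : Type u) [CommRing U] (g1 g2 : S →+* U)
    (hg : g1.comp (algebraMap R S) = g2.comp (algebraMap R S)) (m : fixed (coact E)) :
    E.hom U g1 g2 hg (el g1 E.N 1 (m : E.N)) = el g2 E.N 1 (m : E.N) := by
  rw [hom_eq, show coact E (m : E.N) = (1 : S) ⊗ₜ[R] (m : E.N) from
    sub_eq_zero.mp (m.2 : (coact E - TensorProduct.mk R S E.N 1) (m : E.N) = 0), Ψ_tmul, map_one]

theorem bijective_coact [Module.Flat R S] :
    Function.Bijective (LinearMap.liftBaseChange S (fixed (coact E)).subtype) :=
  bijective_of_coaction _ (coact_smul E) (coact_counit E) (coact_coassoc E)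

end Groth.L19.ModDescent
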