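import Groth.Agent.L19.ModDescent.Core
import Mathlib.CategoryTheory.Sites.Descent.DescentData
import Mathlib.RingTheory.RingHom.Flat

/-!
# Descent data for modules along a flat ring map
-/

set_option autoImplicit false
set_option linter.style.haveILetI false

open CategoryTheory Opposite TensorProduct

universe u

namespace Groth.L19.ModDescent

variable {R S : Type u} [CommRing R] [CommRing S] [Algebra R S]

variable (R S) in
/-- The base morphism. -/
abbrev base : (op (CommRingCat.of S) : CommRingCat.{u}ᵒᵖ) ⟶ op (CommRingCat.of R) :=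
  (CommRingCat.ofHom (algebraMap R S)).op

variable (D : Desc.ringModPF.{u}.DescentData (fun _ : PUnit.{u + 1} => base R S))

/-- The module of a descent datum. -/
noncomputable def obj₀ : ModuleCat.{u} S := D.obj PUnit.unit

/-- The comparison of a descent datum. -/
noncomputable def dhom {U : CommRingCat.{u}} (q : op U ⟶ op (CommRingCat.of R))
    (g1 g2 : op U ⟶ op (CommRingCat.of S)) (h1 : g1 ≫ base R S = q) (h2 : g2 ≫ base R S = q) :
    (ModuleCat.extendScalars g1.unop.hom).obj (obj₀ D) ⟶ (ModuleCat.extendScalars g2.unop.hom).obj (obj₀ D) :=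
  D.hom q g1 g2 h1 h2

theorem pullHom_hom_single {C : Type*} [Category C] {F : Pseudofunctor (LocallyDiscrete Cᵒᵖ) Cat}
    {X₀ S₀ : C} {f : X₀ ⟶ S₀} (D : F.DescentData (fun _ : PUnit.{u + 1} => f))
    {Y' Y : C} (g : Y' ⟶ Y) (q : Y ⟶ S₀) (q' : Y' ⟶ S₀) (hq : g ≫ q = q')
    (f₁ : Y ⟶ X₀) (f₂ : Y ⟶ X₀) (hf₁ : f₁ ≫ f = q) (hf₂ : f₂ ≫ f = q)
    (gf₁ : Y' ⟶ X₀) (gf₂ : Y' ⟶ X₀) (hgf₁ : g ≫ f₁ = gf₁) (hgf₂ : g ≫ f₂ = gf₂)
    (hf₁' : gf₁ ≫ f = q') (hf₂' : gf₂ ≫ f = q')
    (e₁ : f₁.op.toLoc ≫ g.op.toLoc = gf₁.op.toLoc) (e₂ : f₂.op.toLoc ≫ g.op.toLoc = gf₂.op.toLoc) :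
    (D.hom q' (i₁ := PUnit.unit) (i₂ := PUnit.unit) gf₁ gf₂ hf₁' hf₂' :
      (F.map gf₁.op.toLoc).toFunctor.obj (D.obj PUnit.unit) ⟶ (F.map gf₂.op.toLoc).toFunctor.obj (D.obj PUnit.unit)) =
      mcHom F f₁.op.toLoc g.op.toLoc gf₁.op.toLoc e₁ (D.obj PUnit.unit) ≫
        (F.map g.op.toLoc).toFunctor.map
          (D.hom q (i₁ := PUnit.unit) (i₂ := PUnit.unit) f₁ f₂ hf₁ hf₂) ≫
          mcInv F f₂.op.toLoc g.op.toLoc gf₂.op.toLoc e₂ (D.obj PUnit.unit) :=
  (D.pullHom_hom g q q' hq f₁ f₂ hf₁ hf₂ gf₁ gf₂ hgf₁ hgf₂).symm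

set_option backward.isDefEq.respectTransparency false in
set_option backward.isDefEq.respectTransparency.types false in
theorem glue {U V W : CommRingCat.{u}} (g : op U ⟶ op V) (p1 p2 : op V ⟶ op W) (g1 g2 : op U ⟶ op W)
    (N : Desc.ringModPF.{u}.obj ⟨op (op W)⟩)
    (a : (Desc.ringModPF.{u}.map g1.op.toLoc).toFunctor.obj N ⟶
      (Desc.ringModPF.{u}.map p1.op.toLoc ≫ Desc.ringModPF.{u}.map g.op.toLoc).toFunctor.obj N)
    (f : (Desc.ringModPF.{u}.map p1.op.toLoc).toFunctor.obj N ⟶ (Desc.ringModPF.{u}.map p2.op.toLoc).toFunctor.obj N)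
    (b : (Desc.ringModPF.{u}.map p2.op.toLoc ≫ Desc.ringModPF.{u}.map g.op.toLoc).toFunctor.obj N ⟶
      (Desc.ringModPF.{u}.map g2.op.toLoc).toFunctor.obj N)
    (k : (Desc.ringModPF.{u}.map g1.op.toLoc).toFunctor.obj N ⟶ (Desc.ringModPF.{u}.map g2.op.toLoc).toFunctor.obj N)
    (a' : (ModuleCat.extendScalars g1.unop.hom).obj N ⟶
      (ModuleCat.extendScalars g.unop.hom).obj ((ModuleCat.extendScalars p1.unop.hom).obj N))
    (f' : (ModuleCat.extendScalars p1.unop.hom).obj N ⟶ (ModuleCat.extendScalars p2.unop.hom).obj N)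
    (b' : (ModuleCat.extendScalars g.unop.hom).obj ((ModuleCat.extendScalars p2.unop.hom).obj N) ⟶
      (ModuleCat.extendScalars g2.unop.hom).obj N)
    (k' : (ModuleCat.extendScalars g1.unop.hom).obj N ⟶ (ModuleCat.extendScalars g2.unop.hom).obj N)
    (ha : a' = a) (hf : f' = f) (hb : b' = b) (hk : k' = k)
    (h : k = a ≫ (Desc.ringModPF.{u}.map g.op.toLoc).toFunctor.map f ≫ b) :
    k' = a' ≫ (ModuleCat.extendScalars g.unop.hom).map f' ≫ b' := by
  subst ha hf hb hk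
  exact h

set_option backward.isDefEq.respectTransparency false in
set_option backward.isDefEq.respectTransparency.types false in
theorem apply_three {U V : CommRingCat.{u}} (g : op U ⟶ op V) {P Q : ModuleCat.{u} V}
    {W Z : ModuleCat.{u} U} (a : W ⟶ (ModuleCat.extendScalars g.unop.hom).obj P) (f : P ⟶ Q)
    (b : (ModuleCat.extendScalars g.unop.hom).obj Q ⟶ Z) (c : W ⟶ Z)
    (hc : c = a ≫ (ModuleCat.extendScalars g.unop.hom).map f ≫ b)
    (x : W) (y : P) (hx : a x = el g.unop.hom P 1 y) : c x = b (el g.unop.hom Q 1 (f y)) := by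
  subst hc
  rw [ConcreteCategory.comp_apply, ConcreteCategory.comp_apply, hx, map_el]

set_option backward.isDefEq.respectTransparency false in
set_option backward.isDefEq.respectTransparency.types false in
theorem dhom_pull {U V : CommRingCat.{u}} (g : op U ⟶ op V) (q : op V ⟶ op (CommRingCat.of R))
    (q' : op U ⟶ op (CommRingCat.of R)) (p1 p2 : op V ⟶ op (CommRingCat.of S))
    (g1 g2 : op U ⟶ op (CommRingCat.of S)) (h1 : p1 ≫ base R S = q) (h2 : p2 ≫ base R S = q)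
    (h1' : g1 ≫ base R S = q') (h2' : g2 ≫ base R S = q')
    (e1 : p1.op.toLoc ≫ g.op.toLoc = g1.op.toLoc) (e2 : p2.op.toLoc ≫ g.op.toLoc = g2.op.toLoc) (n : obj₀ D) :
    dhom D q' g1 g2 h1' h2' (el g1.unop.hom (obj₀ D) 1 n) =
      (cmp p2 g g2 e2 (obj₀ D)).inv
        (el g.unop.hom _ 1 (dhom D q p1 p2 h1 h2 (el p1.unop.hom (obj₀ D) 1 n))) := by
  have hg1 : g ≫ p1 = g1 := Quiver.Hom.op_inj (congrArg (fun k => k.as) e1)
  have hg2 : g ≫ p2 = g2 := Quiver.Hom.op_inj (congrArg (fun k => k.as) e2)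
  have key : dhom D q' g1 g2 h1' h2' =
      (cmp p1 g g1 e1 (obj₀ D)).hom ≫ (ModuleCat.extendScalars g.unop.hom).map (dhom D q p1 p2 h1 h2) ≫
        (cmp p2 g g2 e2 (obj₀ D)).inv :=
    glue g p1 p2 g1 g2 (D.obj PUnit.unit) _ (D.hom q p1 p2 h1 h2) _ (D.hom q' g1 g2 h1' h2') _
      (dhom D q p1 p2 h1 h2) _ (dhom D q' g1 g2 h1' h2')
      (cmp_hom_def p1 g g1 e1 (D.obj PUnit.unit)) rfl (cmp_inv_def p2 g g2 e2 (D.obj PUnit.unit)) rfl
      (pullHom_hom_single D g q q' (by rw [← h1, ← Category.assoc, hg1, h1'])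
        p1 p2 h1 h2 g1 g2 hg1 hg2 h1' h2' e1 e2)
  exact apply_three g _ _ _ _ key _ _ (cmp_hom p1 g g1 e1 (obj₀ D) n)

theorem dhom_self {U : CommRingCat.{u}} (q : op U ⟶ op (CommRingCat.of R)) (g : op U ⟶ op (CommRingCat.of S))
    (h : g ≫ base R S = q) : dhom D q g g h h = 𝟙 _ :=
  D.hom_self q g h

theorem dhom_comp {U : CommRingCat.{u}} (q : op U ⟶ op (CommRingCat.of R))
    (g1 g2 g3 : op U ⟶ op (CommRingCat.of S)) (h1 : g1 ≫ base R S = q) (h2 : g2 ≫ base R S = q)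
    (h3 : g3 ≫ base R S = q) : dhom D q g1 g2 h1 h2 ≫ dhom D q g2 g3 h2 h3 = dhom D q g1 g3 h1 h3 :=
  D.hom_comp q g1 g2 g3 h1 h2 h3

theorem cmp_inv_push {A B C : CommRingCat.{u}} (φ : op B ⟶ op A) (ψ : op C ⟶ op B) (φψ : op C ⟶ op A)
    (h : φ.op.toLoc ≫ ψ.op.toLoc = φψ.op.toLoc) (M : ModuleCat.{u} A)
    (e : ψ.unop.hom.comp φ.unop.hom = φψ.unop.hom) (z : (ModuleCat.extendScalars φ.unop.hom).obj M) :
    (cmp φ ψ φψ h M).inv (el ψ.unop.hom _ 1 z) = push M φ.unop.hom ψ.unop.hom φψ.unop.hom e z := by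
  induction z using el_induction φ.unop.hom M with
  | h0 => rw [el_zero, map_zero, map_zero]
  | ht b m => exact cmp_inv φ ψ φψ h M b m
  | ha x y hx hy => rw [el_add, map_add, map_add, hx, hy]

theorem dhom_push {U V : CommRingCat.{u}} (g : op U ⟶ op V) (q : op V ⟶ op (CommRingCat.of R))
    (q' : op U ⟶ op (CommRingCat.of R)) (p1 p2 : op V ⟶ op (CommRingCat.of S))
    (g1 g2 : op U ⟶ op (CommRingCat.of S)) (h1 : p1 ≫ base R S = q) (h2 : p2 ≫ base R S = q)
    (h1' : g1 ≫ base R S = q') (h2' : g2 ≫ base R S = q')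
    (e1 : p1.op.toLoc ≫ g.op.toLoc = g1.op.toLoc) (e2 : p2.op.toLoc ≫ g.op.toLoc = g2.op.toLoc)
    (e : g.unop.hom.comp p2.unop.hom = g2.unop.hom) (n : obj₀ D) :
    dhom D q' g1 g2 h1' h2' (el g1.unop.hom (obj₀ D) 1 n) =
      push (obj₀ D) p2.unop.hom g.unop.hom g2.unop.hom e (dhom D q p1 p2 h1 h2 (el p1.unop.hom (obj₀ D) 1 n)) :=
  (dhom_pull D g q q' p1 p2 g1 g2 h1 h2 h1' h2' e1 e2 n).trans (cmp_inv_push p2 g g2 e2 (obj₀ D) e _)

theorem opHom_comp_base {U : Type u} [CommRing U] (g g0 : S →+* U)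
    (h : g0.comp (algebraMap R S) = g.comp (algebraMap R S)) :
    (CommRingCat.ofHom g).op ≫ base R S = (CommRingCat.ofHom (g0.comp (algebraMap R S))).op := by
  rw [h]; rfl

/-- The comparison of a descent datum, in ring maps. -/
noncomputable def rhom (U : Type u) [CommRing U] (g1 g2 : S →+* U)
    (h : g1.comp (algebraMap R S) = g2.comp (algebraMap R S)) :
    (ModuleCat.extendScalars g1).obj (obj₀ D) ⟶ (ModuleCat.extendScalars g2).obj (obj₀ D) :=
  dhom D (CommRingCat.ofHom (g1.comp (algebraMap R S))).op (CommRingCat.ofHom g1).op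
    (CommRingCat.ofHom g2).op (opHom_comp_base g1 g1 rfl) (opHom_comp_base g2 g1 h)

theorem rhom_self (U : Type u) [CommRing U] (g : S →+* U) : rhom D U g g rfl = 𝟙 _ :=
  dhom_self D _ _ _

theorem rhom_comp (U : Type u) [CommRing U] (g1 g2 g3 : S →+* U)
    (h12 : g1.comp (algebraMap R S) = g2.comp (algebraMap R S))
    (h23 : g2.comp (algebraMap R S) = g3.comp (algebraMap R S)) :
    rhom D U g1 g2 h12 ≫ rhom D U g2 g3 h23 = rhom D U g1 g3 (h12.trans h23) := by
  have e : rhom D U g2 g3 h23 = dhom D (CommRingCat.ofHom (g1.comp (algebraMap R S))).op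
      (CommRingCat.ofHom g2).op (CommRingCat.ofHom g3).op (opHom_comp_base g2 g1 h12)
      (opHom_comp_base g3 g1 (h12.trans h23)) := by
    unfold rhom
    congr 1
    rw [h12]
  rw [e]
  exact dhom_comp D _ _ _ _ _ _ _

theorem rhom_pull (U V : Type u) [CommRing U] [CommRing V] (k : U →+* V) (g1 g2 : S →+* U) (G1 G2 : S →+* V)
    (e1 : k.comp g1 = G1) (e2 : k.comp g2 = G2)
    (h : g1.comp (algebraMap R S) = g2.comp (algebraMap R S))
    (H : G1.comp (algebraMap R S) = G2.comp (algebraMap R S)) (n : obj₀ D) :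
    rhom D V G1 G2 H (el G1 (obj₀ D) 1 n) =
      push (obj₀ D) g2 k G2 e2 (rhom D U g1 g2 h (el g1 (obj₀ D) 1 n)) :=
  dhom_push D (CommRingCat.ofHom k).op _ _ (CommRingCat.ofHom g1).op (CommRingCat.ofHom g2).op
    (CommRingCat.ofHom G1).op (CommRingCat.ofHom G2).op _ _ _ _
    (by subst e1; rfl) (by subst e2; rfl) e2 n

/-- The elementwise datum of a descent datum. -/
noncomputable def datum : Datum R S where
  N := obj₀ D
  hom := rhom D
  self U _ g z := by rw [rhom_self]; rfl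
  comp U _ g1 g2 g3 h12 h23 z := by rw [← rhom_comp D U g1 g2 g3 h12 h23]; rfl
  pull := rhom_pull D

end Groth.L19.ModDescent

namespace Groth.L19.ModDescent

set_option backward.isDefEq.respectTransparency false in
set_option backward.isDefEq.respectTransparency.types false in
theorem iso_of_single {F : Pseudofunctor (LocallyDiscrete CommRingCat.{u}ᵒᵖᵒᵖ) Cat.{u, u + 1}}
    {X₀ S₀ : CommRingCat.{u}} {f : op X₀ ⟶ op S₀} (D : F.DescentData (fun _ : PUnit.{u + 1} => f))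
    (M : F.obj ⟨op (op S₀)⟩) (e : (F.map f.op.toLoc).toFunctor.obj M ≅ D.obj PUnit.unit)
    (h : ∀ (U : CommRingCat.{u}) (q : op U ⟶ op S₀) (g1 g2 : op U ⟶ op X₀) (h1 : g1 ≫ f = q) (h2 : g2 ≫ f = q)
      (e1 : f.op.toLoc ≫ g1.op.toLoc = q.op.toLoc) (e2 : f.op.toLoc ≫ g2.op.toLoc = q.op.toLoc),
      (F.map g1.op.toLoc).toFunctor.map e.hom ≫ D.hom q (i₁ := PUnit.unit) (i₂ := PUnit.unit) g1 g2 h1 h2 =
        (mcInv F f.op.toLoc g1.op.toLoc q.op.toLoc e1 M ≫ mcHom F f.op.toLoc g2.op.toLoc q.op.toLoc e2 M) ≫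
          (F.map g2.op.toLoc).toFunctor.map e.hom) :
    Nonempty ((F.toDescentData (fun _ : PUnit.{u + 1} => f)).obj M ≅ D) := by
  refine ⟨Pseudofunctor.DescentData.isoMk (fun _ => e) ?_⟩
  rintro ⟨U⟩ q ⟨⟩ ⟨⟩ g1 g2 h1 h2
  exact h U q g1 g2 h1 h2 (congrArg (fun m => m.op.toLoc) h1) (congrArg (fun m => m.op.toLoc) h2)

set_option backward.isDefEq.respectTransparency false in
set_option backward.isDefEq.respectTransparency.types false in
theorem glue_base {U W R₀ : CommRingCat.{u}} (f₀ : op W ⟶ op R₀) (q : op U ⟶ op R₀) (g1 g2 : op U ⟶ op W)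
    (e1 : f₀.op.toLoc ≫ g1.op.toLoc = q.op.toLoc) (e2 : f₀.op.toLoc ≫ g2.op.toLoc = q.op.toLoc)
    (M : ModuleCat.{u} R₀) (N : ModuleCat.{u} W)
    (θ' : (ModuleCat.extendScalars f₀.unop.hom).obj M ⟶ N)
    (θ : (Desc.ringModPF.{u}.map f₀.op.toLoc).toFunctor.obj M ⟶ N) (hθ : θ' = θ)
    (k' : (ModuleCat.extendScalars g1.unop.hom).obj N ⟶ (ModuleCat.extendScalars g2.unop.hom).obj N)
    (k : (Desc.ringModPF.{u}.map g1.op.toLoc).toFunctor.obj N ⟶ (Desc.ringModPF.{u}.map g2.op.toLoc).toFunctor.obj N)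
    (hk : k' = k)
    (h : (ModuleCat.extendScalars g1.unop.hom).map θ' ≫ k' =
      ((cmp f₀ g1 q e1 M).inv ≫ (cmp f₀ g2 q e2 M).hom) ≫ (ModuleCat.extendScalars g2.unop.hom).map θ') :
    (Desc.ringModPF.{u}.map g1.op.toLoc).toFunctor.map θ ≫ k =
      (mcInv Desc.ringModPF.{u} f₀.op.toLoc g1.op.toLoc q.op.toLoc e1 M ≫
        mcHom Desc.ringModPF.{u} f₀.op.toLoc g2.op.toLoc q.op.toLoc e2 M) ≫
          (Desc.ringModPF.{u}.map g2.op.toLoc).toFunctor.map θ := by
  subst hθ hk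
  rw [cmp_inv_def, cmp_hom_def] at h
  exact h

set_option backward.isDefEq.respectTransparency false in
set_option backward.isDefEq.respectTransparency.types false in
theorem effective {R S : Type u} [CommRing R] [CommRing S] (α : R →+* S) (hα : α.Flat)
    (D : Desc.ringModPF.{u}.DescentData (fun _ : PUnit.{u + 1} => (CommRingCat.ofHom α).op)) : ∃ M : ModuleCat.{u} R, Nonempty ((Desc.ringModPF.{u}.toDescentData
      (fun _ : PUnit.{u + 1} => (CommRingCat.ofHom α).op)).obj M ≅ D) := by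
  letI : Algebra R S := α.toAlgebra
  haveI : Module.Flat R S := hα
  letI : Module R (datum D).N := Module.compHom (datum D).N (algebraMap R S)
  haveI : IsScalarTower R S (datum D).N := IsScalarTower.of_algebraMap_smul fun _ _ => rfl
  let M : ModuleCat.{u} R := ModuleCat.of R (fixed (coact (datum D)))
  let f : S ⊗[R] fixed (coact (datum D)) →ₗ[S] (datum D).N :=
    LinearMap.liftBaseChange S (fixed (coact (datum D))).subtype
  let θ0 := ModuleCat.ofHom f
  let θ : (ModuleCat.extendScalars (algebraMap R S)).obj M ⟶ (datum D).N := θ0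
  haveI : IsIso θ := (ConcreteCategory.isIso_iff_bijective θ).mpr (bijective_coact (datum D))
  refine ⟨M, iso_of_single D M (asIso θ) ?_⟩
  intro U q g1 g2 h1 h2 e1 e2
  refine glue_base (base R S) q g1 g2 e1 e2 M (datum D).N θ θ rfl (dhom D q g1 g2 h1 h2) _ rfl ?_
  refine hom_ext fun x => ?_
  induction x using el_induction (algebraMap R S) M with
  | h0 => simp only [el_zero, map_zero]
  | ht s m =>
    have hθ : ∀ t : S, θ (el (algebraMap R S) M t m) = t • (m : fixed (coact (datum D))).1 :=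
      fun t => LinearMap.liftBaseChange_tmul _ _ _ _
    have hg : g1.unop.hom.comp (algebraMap R S) = g2.unop.hom.comp (algebraMap R S) :=
      congrArg (fun m => m.unop.hom) (h1.trans h2.symm)
    have hq : q = (CommRingCat.ofHom (g1.unop.hom.comp (algebraMap R S))).op := h1.symm
    have hm : dhom D q g1 g2 h1 h2 (el g1.unop.hom (datum D).N 1 (m : fixed (coact (datum D))).1) =
        el g2.unop.hom (datum D).N 1 (m : fixed (coact (datum D))).1 := by
      subst hq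
      exact hom_fixed (datum D) U g1.unop.hom g2.unop.hom hg m
    rw [ConcreteCategory.comp_apply, map_el]
    refine (congrArg (fun z => dhom D q g1 g2 h1 h2 (el g1.unop.hom (datum D).N 1 z)) (hθ s)).trans ?_
    rw [el_smul, mul_one, el_eq_smul, map_smul, hm,
      ConcreteCategory.comp_apply, ConcreteCategory.comp_apply, el_eq_smul (algebraMap R S) M s m]
    rw [← el_eq_smul (algebraMap R S) M s m]
    refine Eq.trans ?_ (congrArg (fun z => ((ModuleCat.extendScalars g2.unop.hom).map θ)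
      ((cmp (base R S) g2 q e2 M).hom z)) (cmp_inv (base R S) g1 q e1 M s m)).symm
    rw [el_eq_smul q.unop.hom M _ m, map_smul, map_smul, cmp_hom]
    exact congrArg (fun z => g1.unop.hom s • el g2.unop.hom (datum D).N 1 z) ((hθ 1).trans (one_smul S _)).symm
  | ha x y hx hy => rw [el_add, map_add, map_add, hx, hy]

end Groth.L19.ModDescent
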