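import Groth.Prelude.Def_Desc
import Mathlib.Algebra.Category.ModuleCat.ChangeOfRings
import Mathlib.Algebra.Category.ModuleCat.Pseudofunctor
import Mathlib.RingTheory.Flat.Basic
import Mathlib.RingTheory.TensorProduct.Basic

/-!
# Elements of iterated extensions of scalars in `ringModPF`
-/

set_option autoImplicit false
set_option linter.style.haveILetI false

open CategoryTheory Opposite TensorProduct ChangeOfRings

universe u

namespace Groth.L19.ModDescent

variable {A B : Type u} [CommRing A] [CommRing B]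

/-- The element `s ⊗ m` of an extension of scalars. -/
noncomputable def el (f : A →+* B) (M : ModuleCat.{u} A) (s : B) (m : M) :
    (ModuleCat.extendScalars f).obj M :=
  s ⊗ₜ[A,f] m

theorem smul_el (f : A →+* B) (M : ModuleCat.{u} A) (r s : B) (m : M) : r • el f M s m = el f M (r * s) m :=
  rfl

theorem map_el (f : A →+* B) {M N : ModuleCat.{u} A} (g : M ⟶ N) (s : B) (m : M) :
    (ModuleCat.extendScalars f).map g (el f M s m) = el f N s (g m) :=
  rfl

theorem el_smul (f : A →+* B) (M : ModuleCat.{u} A) (r : A) (s : B) (m : M) :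
    el f M s (r • m) = el f M (f r * s) m := by
  letI := f.toAlgebra
  show s ⊗ₜ[A] (r • m) = (r • s) ⊗ₜ[A] m
  rw [TensorProduct.tmul_smul, TensorProduct.smul_tmul']

theorem el_add (f : A →+* B) (M : ModuleCat.{u} A) (s : B) (m m' : M) :
    el f M s (m + m') = el f M s m + el f M s m' :=
  TensorProduct.tmul_add _ _ _

theorem add_el (f : A →+* B) (M : ModuleCat.{u} A) (s s' : B) (m : M) :
    el f M (s + s') m = el f M s m + el f M s' m :=
  TensorProduct.add_tmul _ _ _

theorem el_zero (f : A →+* B) (M : ModuleCat.{u} A) (s : B) : el f M s 0 = 0 :=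
  TensorProduct.tmul_zero _ _

theorem zero_el (f : A →+* B) (M : ModuleCat.{u} A) (m : M) : el f M 0 m = 0 :=
  TensorProduct.zero_tmul _ _

theorem el_eq_smul (f : A →+* B) (M : ModuleCat.{u} A) (s : B) (m : M) : el f M s m = s • el f M 1 m := by
  rw [smul_el, mul_one]

theorem el_induction (f : A →+* B) (M : ModuleCat.{u} A) {P : (ModuleCat.extendScalars f).obj M → Prop}
    (h0 : P 0) (ht : ∀ s m, P (el f M s m)) (ha : ∀ x y, P x → P y → P (x + y))
    (x : (ModuleCat.extendScalars f).obj M) : P x :=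
  TensorProduct.induction_on x h0 ht ha

/-- Morphisms out of an extension of scalars are determined by `1 ⊗ m`. -/
theorem hom_ext {f : A →+* B} {M : ModuleCat.{u} A} {P : ModuleCat.{u} B}
    {a b : (ModuleCat.extendScalars f).obj M ⟶ P} (h : ∀ m, a (el f M 1 m) = b (el f M 1 m)) : a = b := by
  refine ModuleCat.hom_ext (LinearMap.ext fun x => ?_)
  induction x using el_induction f M with
  | h0 => rw [map_zero, map_zero]
  | ht s m => rw [el_eq_smul, map_smul, map_smul]; exact congrArg _ (h m)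
  | ha x y hx hy => rw [map_add, map_add, hx, hy]

/-- Additive maps out of an extension of scalars. -/
noncomputable def liftEl (f : A →+* B) (M : ModuleCat.{u} A) {P : Type u} [AddCommGroup P]
    (g : B →+ M →+ P) (hg : ∀ (r : A) (b : B) (m : M), g (f r * b) m = g b (r • m)) :
    (ModuleCat.extendScalars f).obj M →+ P :=
  letI := Module.compHom B f
  TensorProduct.liftAddHom g hg

theorem liftEl_el (f : A →+* B) (M : ModuleCat.{u} A) {P : Type u} [AddCommGroup P]
    (g : B →+ M →+ P) (hg : ∀ (r : A) (b : B) (m : M), g (f r * b) m = g b (r • m)) (b : B) (m : M) :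
    liftEl f M g hg (el f M b m) = g b m :=
  rfl

theorem app_hom {X Y : Cat} {F G : X ⟶ Y} (e : F ≅ G) (N : X) :
    ((Cat.Hom.toNatIso e).app N).hom = e.hom.toNatTrans.app N := rfl

theorem app_inv {X Y : Cat} {F G : X ⟶ Y} (e : F ≅ G) (N : X) :
    ((Cat.Hom.toNatIso e).app N).inv = e.inv.toNatTrans.app N := rfl

/-- The component of `mapComp'`. -/
def mcHom {B : Type*} [Bicategory B] (F : Pseudofunctor B Cat) {a b c : B} (f : a ⟶ b) (g : b ⟶ c) (fg : a ⟶ c)
    (h : f ≫ g = fg) (N : F.obj a) : (F.map fg).toFunctor.obj N ⟶ (F.map f ≫ F.map g).toFunctor.obj N :=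
  (F.mapComp' f g fg h).hom.toNatTrans.app N

/-- The component of `mapComp'`, backwards. -/
def mcInv {B : Type*} [Bicategory B] (F : Pseudofunctor B Cat) {a b c : B} (f : a ⟶ b) (g : b ⟶ c) (fg : a ⟶ c)
    (h : f ≫ g = fg) (N : F.obj a) : (F.map f ≫ F.map g).toFunctor.obj N ⟶ (F.map fg).toFunctor.obj N :=
  (F.mapComp' f g fg h).inv.toNatTrans.app N

section Comp

variable {A B C : CommRingCat.{u}}

theorem compHom_apply (φ : op B ⟶ op A) (ψ : op C ⟶ op B) (a : A) :
    (ψ ≫ φ).unop.hom a = ψ.unop.hom (φ.unop.hom a) := rfl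

variable (φ : op B ⟶ op A) (ψ : op C ⟶ op B) (φψ : op C ⟶ op A) (h : φ.op.toLoc ≫ ψ.op.toLoc = φψ.op.toLoc)
  (M : ModuleCat.{u} A)

/-- The comparison of the iterated with the composite extension of scalars. -/
noncomputable def cmpAux : (ModuleCat.extendScalars φψ.unop.hom).obj M ≅
    (ModuleCat.extendScalars ψ.unop.hom).obj ((ModuleCat.extendScalars φ.unop.hom).obj M) :=
  (Cat.Hom.toNatIso (Desc.ringModPF.{u}.mapComp' φ.op.toLoc ψ.op.toLoc φψ.op.toLoc h)).app M

theorem exists_cmp : ∃ e : (ModuleCat.extendScalars φψ.unop.hom).obj M ≅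
    (ModuleCat.extendScalars ψ.unop.hom).obj ((ModuleCat.extendScalars φ.unop.hom).obj M),
    e = cmpAux φ ψ φψ h M :=
  ⟨_, rfl⟩

/-- The comparison of the iterated with the composite extension of scalars, sealed. -/
noncomputable def cmp : (ModuleCat.extendScalars φψ.unop.hom).obj M ≅
    (ModuleCat.extendScalars ψ.unop.hom).obj ((ModuleCat.extendScalars φ.unop.hom).obj M) :=
  Classical.choose (exists_cmp φ ψ φψ h M)

theorem cmp_eq_aux : cmp φ ψ φψ h M = cmpAux φ ψ φψ h M :=
  Classical.choose_spec (exists_cmp φ ψ φψ h M)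

set_option backward.isDefEq.respectTransparency false in
theorem cmp_hom_def : (cmp φ ψ φψ h M).hom =
    mcHom Desc.ringModPF.{u} φ.op.toLoc ψ.op.toLoc φψ.op.toLoc h M :=
  (congrArg Iso.hom (cmp_eq_aux φ ψ φψ h M)).trans <| app_hom (Desc.ringModPF.{u}.mapComp' φ.op.toLoc ψ.op.toLoc φψ.op.toLoc h) M

set_option backward.isDefEq.respectTransparency false in
theorem cmp_inv_def : (cmp φ ψ φψ h M).inv =
    mcInv Desc.ringModPF.{u} φ.op.toLoc ψ.op.toLoc φψ.op.toLoc h M :=
  (congrArg Iso.inv (cmp_eq_aux φ ψ φψ h M)).trans <| app_inv (Desc.ringModPF.{u}.mapComp' φ.op.toLoc ψ.op.toLoc φψ.op.toLoc h) M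

theorem cmp_hom (m : M) :
    (cmp φ ψ φψ h M).hom (el φψ.unop.hom M 1 m) = el ψ.unop.hom _ 1 (el φ.unop.hom M 1 m) := by
  obtain rfl : φψ = ψ ≫ φ := Quiver.Hom.op_inj (congrArg (fun k => k.as) h).symm
  have e : Desc.ringModPF.{u}.mapComp' φ.op.toLoc ψ.op.toLoc (ψ ≫ φ).op.toLoc h =
      Desc.ringModPF.{u}.mapComp φ.op.toLoc ψ.op.toLoc :=
    Pseudofunctor.mapComp'_eq_mapComp _ _ _
  rw [cmp_eq_aux]
  unfold cmpAux
  rw [e]
  exact ModuleCat.extendScalarsComp_hom_app_one_tmul φ.unop.hom ψ.unop.hom M m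

include h in
theorem unop_eq (a : A) : φψ.unop.hom a = ψ.unop.hom (φ.unop.hom a) := by
  obtain rfl : φψ = ψ ≫ φ := Quiver.Hom.op_inj (congrArg (fun k => k.as) h).symm
  rfl

theorem cmp_inv (b : B) (m : M) :
    (cmp φ ψ φψ h M).inv (el ψ.unop.hom _ 1 (el φ.unop.hom M b m)) = el φψ.unop.hom M (ψ.unop.hom b) m := by
  have h1 : (cmp φ ψ φψ h M).hom (el φψ.unop.hom M (ψ.unop.hom b) m) =
      el ψ.unop.hom _ 1 (el φ.unop.hom M b m) := by
    rw [el_eq_smul φψ.unop.hom, map_smul, cmp_hom, smul_el, ← el_smul, smul_el, mul_one]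
  rw [← h1]
  exact (cmp φ ψ φψ h M).toLinearEquiv.symm_apply_apply _

end Comp

end Groth.L19.ModDescent
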