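import Groth.Agent.L19.ModDescent.Push

/-!
# Extensions of scalars to `S ⊗ S` and to `S ⊗ (S ⊗ S)`
-/

set_option autoImplicit false
set_option linter.style.haveILetI false

open CategoryTheory TensorProduct

universe u

namespace Groth.L19.ModDescent

variable (R : Type u) {S : Type u} [CommRing R] [CommRing S] [Algebra R S]

/-- `s ↦ s ⊗ 1`. -/
noncomputable def inL : S →+* S ⊗[R] S := Algebra.TensorProduct.includeLeftRingHom

/-- `s ↦ 1 ⊗ s`. -/
noncomputable def inR : S →+* S ⊗[R] S := (Algebra.TensorProduct.includeRight : S →ₐ[R] S ⊗[R] S).toRingHom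

theorem inL_apply (s : S) : inL R s = s ⊗ₜ[R] (1 : S) := rfl

theorem inR_apply (s : S) : inR R s = (1 : S) ⊗ₜ[R] s := rfl

theorem inL_comp : (inL R).comp (algebraMap R S) = (inR R).comp (algebraMap R S) := by
  refine RingHom.ext fun r => ?_
  simp only [RingHom.comp_apply, inL_apply, inR_apply]
  rw [Algebra.algebraMap_eq_smul_one, smul_tmul]

variable (N : ModuleCat.{u} S) [Module R N] [IsScalarTower R S N]

/-- `s ⊗ n ↦ g₁ s ⊗ n`. -/
noncomputable def Ψ {U : Type u} [CommRing U] (g₁ g₂ : S →+* U)
    (hg : g₁.comp (algebraMap R S) = g₂.comp (algebraMap R S)) :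
    S ⊗[R] N →+ (ModuleCat.extendScalars g₂).obj N :=
  TensorProduct.liftAddHom
    { toFun := fun s =>
        { toFun := fun n => el g₂ N (g₁ s) n
          map_zero' := el_zero _ _ _
          map_add' := el_add _ _ _ }
      map_zero' := by ext n; simp [zero_el]
      map_add' := fun s s' => by ext n; simp [add_el] }
    fun r s n => by
      show el g₂ N (g₁ (r • s)) n = el g₂ N (g₁ s) (r • n)
      rw [← algebraMap_smul S r n, el_smul, Algebra.smul_def, map_mul]
      exact congrArg (fun a => el g₂ N (a * g₁ s) n) (RingHom.congr_fun hg r)

theorem Ψ_tmul {U : Type u} [CommRing U] (g₁ g₂ : S →+* U)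
    (hg : g₁.comp (algebraMap R S) = g₂.comp (algebraMap R S)) (s : S) (n : N) :
    Ψ R N g₁ g₂ hg (s ⊗ₜ n) = el g₂ N (g₁ s) n := rfl

/-- The action on an element. -/
noncomputable def act (n : N) : S →ₗ[R] N := (LinearMap.toSpanSingleton S N n).restrictScalars R

theorem act_apply (n : N) (s : S) : act R N n s = s • n := rfl

/-- `(a ⊗ b) ⊗ n ↦ a ⊗ b n`. -/
noncomputable def Φ : (ModuleCat.extendScalars (inR R (S := S))).obj N →+ S ⊗[R] N :=
  liftEl (inR R) N
    { toFun := fun t =>
        { toFun := fun n => (act R N n).lTensor S t
          map_zero' := by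
            induction t using TensorProduct.induction_on with
            | zero => simp
            | tmul a b => simp [act_apply]
            | add x y hx hy => simp only [map_add, hx, hy, add_zero]
          map_add' := fun n n' => by
            induction t using TensorProduct.induction_on with
            | zero => simp
            | tmul a b => simp [act_apply, tmul_add]
            | add x y hx hy => simp only [map_add, hx, hy]; abel }
      map_zero' := by ext n; exact map_zero ((act R N n).lTensor S)
      map_add' := fun t t' => by ext n; exact map_add ((act R N n).lTensor S) t t' }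
    fun s t n => by
      show (act R N n).lTensor S (inR R s * t) = (act R N (s • n)).lTensor S t
      induction t using TensorProduct.induction_on with
      | zero => simp
      | tmul a b =>
        rw [inR_apply, Algebra.TensorProduct.tmul_mul_tmul]
        simp [act_apply, smul_smul, mul_comm]
      | add x y hx hy => simp only [mul_add, map_add, hx, hy]

theorem Φ_el (t : S ⊗[R] S) (n : N) : Φ R N (el (inR R) N t n) = (act R N n).lTensor S t := rfl

theorem Ψ_Φ (z : (ModuleCat.extendScalars (inR R (S := S))).obj N) :
    Ψ R N (inL R) (inR R) (inL_comp R) (Φ R N z) = z := by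
  induction z using el_induction (inR R) N with
  | h0 => rw [map_zero, map_zero]
  | ht t n =>
    rw [Φ_el]
    induction t using TensorProduct.induction_on with
    | zero => rw [map_zero, map_zero, zero_el]
    | tmul a b =>
      rw [LinearMap.lTensor_tmul, Ψ_tmul, act_apply, el_smul, inL_apply, inR_apply,
        Algebra.TensorProduct.tmul_mul_tmul, one_mul, mul_one]
    | add x y hx hy => rw [map_add, map_add, hx, hy, add_el]
  | ha x y hx hy => rw [map_add, map_add, hx, hy]

theorem Φ_smul (s : S) (z : (ModuleCat.extendScalars (inR R (S := S))).obj N) :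
    Φ R N (inL R s • z) = s • Φ R N z := by
  induction z using el_induction (inR R) N with
  | h0 => rw [smul_zero, map_zero, smul_zero]
  | ht t n =>
    rw [smul_el, Φ_el, Φ_el]
    induction t using TensorProduct.induction_on with
    | zero => simp
    | tmul a b =>
      rw [inL_apply, Algebra.TensorProduct.tmul_mul_tmul, one_mul]
      simp [smul_tmul']
    | add x y hx hy => simp only [mul_add, map_add, smul_add, hx, hy]
  | ha x y hx hy => rw [smul_add, map_add, hx, hy, map_add, smul_add]

/-- `S → S ⊗ (S ⊗ S)`, first factor. -/
noncomputable def in1 : S →+* S ⊗[R] (S ⊗[R] S) := Algebra.TensorProduct.includeLeftRingHom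

/-- The map of the two last factors. -/
noncomputable def inTail : S ⊗[R] S →+* S ⊗[R] (S ⊗[R] S) :=
  (Algebra.TensorProduct.includeRight : (S ⊗[R] S) →ₐ[R] S ⊗[R] (S ⊗[R] S)).toRingHom

/-- `S → S ⊗ (S ⊗ S)`, second factor. -/
noncomputable def in2 : S →+* S ⊗[R] (S ⊗[R] S) := (inTail R).comp (inL R)

/-- `S → S ⊗ (S ⊗ S)`, third factor. -/
noncomputable def in3 : S →+* S ⊗[R] (S ⊗[R] S) := (inTail R).comp (inR R)

theorem in1_apply (s : S) : in1 R s = s ⊗ₜ[R] ((1 : S) ⊗ₜ[R] (1 : S)) := rfl

theorem in2_apply (s : S) : in2 R s = (1 : S) ⊗ₜ[R] (s ⊗ₜ[R] (1 : S)) := rfl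

theorem in3_apply (s : S) : in3 R s = (1 : S) ⊗ₜ[R] ((1 : S) ⊗ₜ[R] s) := rfl

theorem in12_comp : (in1 R).comp (algebraMap R S) = (in2 R).comp (algebraMap R S) := by
  refine RingHom.ext fun r => ?_
  simp only [RingHom.comp_apply, in1_apply, in2_apply]
  rw [Algebra.algebraMap_eq_smul_one, smul_tmul, ← smul_tmul' r (1 : S) (1 : S)]

theorem in23_comp : (in2 R).comp (algebraMap R S) = (in3 R).comp (algebraMap R S) := by
  rw [in2, in3, RingHom.comp_assoc, RingHom.comp_assoc, inL_comp R]

/-- `(a ⊗ (b ⊗ b')) ⊗ n ↦ a ⊗ (b ⊗ b' n)`. -/
noncomputable def Ξ : (ModuleCat.extendScalars (in3 R (S := S))).obj N →+ S ⊗[R] (S ⊗[R] N) :=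
  liftEl (in3 R) N
    { toFun := fun v =>
        { toFun := fun m => ((act R N m).lTensor S).lTensor S v
          map_zero' := by
            induction v using TensorProduct.induction_on with
            | zero => simp
            | tmul a t =>
              induction t using TensorProduct.induction_on with
              | zero => simp
              | tmul b b' => simp [act_apply]
              | add x y hx hy => simp only [tmul_add, map_add, hx, hy, add_zero]
            | add x y hx hy => simp only [map_add, hx, hy, add_zero]
          map_add' := fun m m' => by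
            induction v using TensorProduct.induction_on with
            | zero => simp
            | tmul a t =>
              induction t using TensorProduct.induction_on with
              | zero => simp
              | tmul b b' => simp [act_apply, tmul_add]
              | add x y hx hy => simp only [tmul_add, map_add, hx, hy]; abel
            | add x y hx hy => simp only [map_add, hx, hy]; abel }
      map_zero' := by ext m; exact map_zero (((act R N m).lTensor S).lTensor S)
      map_add' := fun v v' => by ext m; exact map_add (((act R N m).lTensor S).lTensor S) v v' }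
    fun s v m => by
      show ((act R N m).lTensor S).lTensor S (in3 R s * v) = ((act R N (s • m)).lTensor S).lTensor S v
      induction v using TensorProduct.induction_on with
      | zero => simp
      | tmul a t =>
        induction t using TensorProduct.induction_on with
        | zero => simp
        | tmul b b' =>
          rw [in3_apply, Algebra.TensorProduct.tmul_mul_tmul, Algebra.TensorProduct.tmul_mul_tmul]
          simp [act_apply, smul_smul, mul_comm]
        | add x y hx hy => simp only [tmul_add, mul_add, map_add, hx, hy]
      | add x y hx hy => simp only [mul_add, map_add, hx, hy]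

theorem Ξ_el (v : S ⊗[R] (S ⊗[R] S)) (n : N) :
    Ξ R N (el (in3 R) N v n) = ((act R N n).lTensor S).lTensor S v := rfl

/-- Evaluation. -/
noncomputable def ev : (ModuleCat.extendScalars (RingHom.id S)).obj N →+ N :=
  liftEl (RingHom.id S) N
    { toFun := fun b => DistribSMul.toAddMonoidHom N b
      map_zero' := AddMonoidHom.ext fun m => zero_smul S m
      map_add' := fun b b' => AddMonoidHom.ext fun m => add_smul b b' m }
    fun r b m => by
      show (r * b) • m = b • r • m
      rw [smul_smul, mul_comm]

theorem ev_el (s : S) (n : N) : ev N (el (RingHom.id S) N s n) = s • n := rfl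

end Groth.L19.ModDescent
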