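import Groth.Agent.L19.ModDescent.Coaction
import Groth.Prelude.Def_Pi1
import Mathlib.Algebra.Module.CharacterModule

/-!
# Modules with a coaction along a universally injective algebra
-/

set_option autoImplicit false
set_option linter.style.haveILetI false

open TensorProduct

universe u

namespace Groth.L19.ModDescent

variable {R S : Type u} [CommRing R] [CommRing S] [Algebra R S]

/-- Over a universally injective algebra the characters of the base extend linearly. -/
theorem exists_char_section (h : Pi1.UnivInjective R S) :
    ∃ σ : CharacterModule R →ₗ[R] CharacterModule S, ∀ ξ r, σ ξ (algebraMap R S r) = ξ r := by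
  obtain ⟨ζ, hζ⟩ := CharacterModule.dual_surjective_of_injective
    ((Algebra.linearMap R S).lTensor (CharacterModule R)) (h (CharacterModule R))
    (CharacterModule.uncurry (LinearMap.id : CharacterModule R →ₗ[R] CharacterModule R))
  refine ⟨CharacterModule.curry ζ, fun ξ r => ?_⟩
  exact DFunLike.congr_fun hζ (ξ ⊗ₜ[R] r)

theorem mk_injective (h : Pi1.UnivInjective R S) (X : Type u) [AddCommGroup X] [Module R X] :
    Function.Injective (TensorProduct.mk R S X 1) := fun x y hxy => by
  have h' := h X
  have e : ∀ z : X, (Algebra.linearMap R S).lTensor X (z ⊗ₜ[R] (1 : R)) = TensorProduct.comm R S X ((1 : S) ⊗ₜ[R] z) := fun z => by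
    simp
  have h2 : x ⊗ₜ[R] (1 : R) = y ⊗ₜ[R] (1 : R) := h' (by rw [e, e]; exact congrArg _ hxy)
  simpa using congrArg (TensorProduct.rid R X) h2

variable (σ : CharacterModule R →ₗ[R] CharacterModule S)

/-- The character `r ↦ ξ (r • x)` of the base. -/
noncomputable def charPt {X : Type u} [AddCommGroup X] [Module R X] (ξ : CharacterModule X) (x : X) :
    CharacterModule R :=
  AddMonoidHom.mk' (fun r => ξ (r • x)) fun a b => by rw [add_smul, map_add]

theorem charPt_apply {X : Type u} [AddCommGroup X] [Module R X] (ξ : CharacterModule X) (x : X) (r : R) :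
    charPt ξ x r = ξ (r • x) := rfl

theorem charPt_add_pt {X : Type u} [AddCommGroup X] [Module R X] (ξ : CharacterModule X) (x y : X) :
    charPt (R := R) ξ (x + y) = charPt ξ x + charPt ξ y :=
  DFunLike.ext _ _ fun r => by
    show ξ (r • (x + y)) = ξ (r • x) + ξ (r • y)
    rw [smul_add, map_add]

theorem charPt_smul_pt {X : Type u} [AddCommGroup X] [Module R X] (ξ : CharacterModule X) (a : R) (x : X) :
    charPt (R := R) ξ (a • x) = a • charPt ξ x :=
  DFunLike.ext _ _ fun r => by
    rw [CharacterModule.smul_apply, charPt_apply, charPt_apply, smul_eq_mul, mul_comm, mul_smul]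

theorem charPt_add {X : Type u} [AddCommGroup X] [Module R X] (ξ η : CharacterModule X) (x : X) :
    charPt (R := R) (ξ + η) x = charPt ξ x + charPt η x :=
  DFunLike.ext _ _ fun _ => rfl

theorem charPt_smul {X : Type u} [AddCommGroup X] [Module R X] (a : R) (ξ : CharacterModule X) (x : X) :
    charPt (R := R) (a • ξ) x = charPt ξ (a • x) :=
  DFunLike.ext _ _ fun r => by
    rw [charPt_apply, charPt_apply, CharacterModule.smul_apply, smul_comm]

/-- The character `x ↦ σ (r ↦ ξ (r • x)) s`. -/
noncomputable def charVal {X : Type u} [AddCommGroup X] [Module R X] (ξ : CharacterModule X) (s : S) :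
    CharacterModule X :=
  AddMonoidHom.mk' (fun x => σ (charPt ξ x) s) fun x y => by
    rw [charPt_add_pt, map_add]
    rfl

theorem charVal_apply {X : Type u} [AddCommGroup X] [Module R X] (ξ : CharacterModule X) (s : S) (x : X) :
    charVal σ ξ s x = σ (charPt ξ x) s := rfl

/-- The bilinear form of a character. -/
noncomputable def charForm {X : Type u} [AddCommGroup X] [Module R X] (ξ : CharacterModule X) :
    S →ₗ[R] CharacterModule X where
  toFun := charVal σ ξ
  map_add' s t := DFunLike.ext _ _ fun x => map_add (σ (charPt ξ x)) s t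
  map_smul' r s := DFunLike.ext _ _ fun x => by
    show σ (charPt ξ x) (r • s) = σ (charPt ξ (r • x)) s
    rw [charPt_smul_pt, map_smul σ]
    exact (CharacterModule.smul_apply _ r s).symm

/-- The bilinear forms, linearly in the character. -/
noncomputable def charFormHom (X : Type u) [AddCommGroup X] [Module R X] :
    CharacterModule X →ₗ[R] S →ₗ[R] CharacterModule X where
  toFun := charForm σ
  map_add' ξ η := LinearMap.ext fun s => DFunLike.ext _ _ fun x => by
    show σ (charPt (ξ + η) x) s = σ (charPt ξ x) s + σ (charPt η x) s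
    rw [charPt_add, map_add]
    rfl
  map_smul' r ξ := LinearMap.ext fun s => DFunLike.ext _ _ fun x => by
    show σ (charPt (r • ξ) x) s = σ (charPt ξ (r • x)) s
    rw [charPt_smul]

/-- The induced section on the characters of a module. -/
noncomputable def charLift (X : Type u) [AddCommGroup X] [Module R X] :
    CharacterModule X →ₗ[R] CharacterModule (S ⊗[R] X) :=
  CharacterModule.uncurry.comp (charFormHom σ X)

theorem charLift_tmul {X : Type u} [AddCommGroup X] [Module R X] (ξ : CharacterModule X) (s : S) (x : X) :
    charLift σ X ξ (s ⊗ₜ[R] x) = σ (charPt ξ x) s := rfl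

theorem charLift_one (hσ : ∀ ξ r, σ ξ (algebraMap R S r) = ξ r) {X : Type u} [AddCommGroup X] [Module R X]
    (ξ : CharacterModule X) (x : X) : charLift σ X ξ ((1 : S) ⊗ₜ[R] x) = ξ x := by
  rw [charLift_tmul, ← map_one (algebraMap R S), hσ, charPt_apply, one_smul]

theorem charLift_natural {X Y : Type u} [AddCommGroup X] [Module R X] [AddCommGroup Y] [Module R Y] (f : X →ₗ[R] Y)
    (η : CharacterModule Y) (z : S ⊗[R] X) :
    charLift σ X (CharacterModule.dual f η) z = charLift σ Y η (f.lTensor S z) := by
  induction z using TensorProduct.induction_on with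
  | zero => simp
  | add a b ha hb => rw [map_add, map_add, map_add, ha, hb]
  | tmul s x =>
    rw [LinearMap.lTensor_tmul, charLift_tmul, charLift_tmul]
    congr 2
    refine DFunLike.ext _ _ fun r => ?_
    show η (f (r • x)) = η (r • f x)
    rw [map_smul]

theorem exists_char_of_vanish {X Y : Type u} [AddCommGroup X] [Module R X] [AddCommGroup Y] [Module R Y]
    (d : X →ₗ[R] Y) (ξ : CharacterModule X) (h : ∀ x, d x = 0 → ξ x = 0) :
    ∃ ζ : CharacterModule Y, CharacterModule.dual d ζ = ξ := by
  let ξ₀ : CharacterModule (X ⧸ LinearMap.ker d) :=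
    QuotientAddGroup.lift (LinearMap.ker d).toAddSubgroup (ξ : X →+ _) fun x hx => h x hx
  obtain ⟨ζ, hζ⟩ := CharacterModule.dual_surjective_of_injective ((LinearMap.ker d).liftQ d le_rfl)
    (LinearMap.ker_eq_bot.1 (Submodule.ker_liftQ_eq_bot _ _ _ le_rfl)) ξ₀
  exact ⟨ζ, DFunLike.ext _ _ fun x => DFunLike.congr_fun hζ (Submodule.Quotient.mk x)⟩

variable {N : Type u} [AddCommGroup N] [Module R N] [Module S N] [IsScalarTower R S N]

theorem bijective_of_coaction_pure (h : Pi1.UnivInjective R S) (c : N →ₗ[R] S ⊗[R] N)
    (hc : ∀ (s : S) (n : N), c (s • n) = s • c n)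
    (hcu : ∀ n, LinearMap.liftBaseChange S (LinearMap.id : N →ₗ[R] N) (c n) = n)
    (hcc : ∀ n, c.lTensor S (c n) = (TensorProduct.mk R S N 1).lTensor S (c n)) :
    Function.Bijective (LinearMap.liftBaseChange S (fixed c).subtype) := by
  obtain ⟨σ, hσ⟩ := exists_char_section h
  let η := TensorProduct.mk R S N 1
  let d : N →ₗ[R] S ⊗[R] N := c - η
  -- the idempotent on the characters
  let p : CharacterModule N →ₗ[R] CharacterModule N := (CharacterModule.dual c).comp (charLift σ N)
  have hp_ker : ∀ ξ : CharacterModule N, (∀ m : fixed c, ξ m = 0) → p ξ = 0 := fun ξ hξ => by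
    obtain ⟨ζ, rfl⟩ := exists_char_of_vanish d ξ fun x hx => hξ ⟨x, hx⟩
    refine DFunLike.ext _ _ fun n => ?_
    show charLift σ N (CharacterModule.dual d ζ) (c n) = 0
    rw [charLift_natural, show d.lTensor S (c n) = 0 by rw [LinearMap.lTensor_sub, LinearMap.sub_apply, hcc, sub_self],
      map_zero]
  have hp_res : ∀ (ξ : CharacterModule N) (m : fixed c), p ξ m = ξ m := fun ξ m => by
    show charLift σ N ξ (c m) = ξ m
    rw [show c (m : N) = (1 : S) ⊗ₜ[R] (m : N) from sub_eq_zero.mp (m.2 : (c - η) (m : N) = 0), charLift_one σ hσ]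
  -- the section of restriction to the fixed points
  have hres : Function.Surjective (CharacterModule.dual (R := R) (fixed c).subtype) :=
    CharacterModule.dual_surjective_of_injective _ Subtype.val_injective
  let lift := Function.surjInv hres
  have hlift : ∀ μ (m : fixed c), lift μ m = μ m := fun μ m => DFunLike.congr_fun (Function.surjInv_eq hres μ) m
  have hwd : ∀ ξ μ, (∀ m : fixed c, ξ m = μ m) → p (lift μ) = p ξ := fun ξ μ hξ => by
    rw [← sub_eq_zero, ← map_sub]
    exact hp_ker _ fun m => by
      show lift μ m - ξ m = 0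
      rw [hlift, hξ, sub_self]
  let u : CharacterModule (fixed c) →ₗ[R] CharacterModule N :=
    { toFun := fun μ => p (lift μ)
      map_add' := fun μ ν => by
        rw [← map_add]
        exact hwd _ _ fun m => by
          show lift μ m + lift ν m = μ m + ν m
          rw [hlift, hlift]
      map_smul' := fun r μ => by
        rw [RingHom.id_apply, ← map_smul]
        exact hwd _ _ fun m => by
          show lift μ (r • (m : N)) = μ (r • m)
          exact hlift μ (r • m) }
  let incl : S ⊗[R] fixed c →ₗ[R] S ⊗[R] N := (fixed c).subtype.lTensor S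
  have hinj : Function.Injective incl := by
    rw [injective_iff_map_eq_zero]
    intro z hz
    refine CharacterModule.eq_zero_of_character_apply fun χ => ?_
    have hχ : χ = CharacterModule.dual incl (CharacterModule.uncurry (u.comp (CharacterModule.curry χ))) := by
      refine DFunLike.ext _ _ fun w => ?_
      induction w using TensorProduct.induction_on with
      | zero => rw [map_zero, map_zero]
      | add a b ha hb => rw [map_add, map_add, ha, hb]
      | tmul s m =>
        show χ (s ⊗ₜ[R] m) = p (lift (CharacterModule.curry χ s)) (m : N)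
        rw [hp_res, hlift]
        rfl
    rw [hχ]
    show CharacterModule.uncurry _ (incl z) = 0
    rw [hz, map_zero]
  have hex : ∀ z, d.lTensor S z = 0 → z ∈ LinearMap.range incl := fun z hz => by
    by_contra hzr
    obtain ⟨χ, hχ⟩ := CharacterModule.exists_character_apply_ne_zero_of_ne_zero
      (a := (Submodule.Quotient.mk z : (S ⊗[R] N) ⧸ LinearMap.range incl))
      (fun e => hzr ((Submodule.Quotient.mk_eq_zero _).1 e))
    let ξ : CharacterModule (S ⊗[R] N) := CharacterModule.dual (LinearMap.range incl).mkQ χ
    have hξ : ∀ s, p (CharacterModule.curry ξ s) = 0 := fun s => hp_ker _ fun m => by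
      show χ (Submodule.Quotient.mk (s ⊗ₜ[R] (m : N))) = 0
      have h0 : (Submodule.Quotient.mk (incl (s ⊗ₜ[R] m)) : (S ⊗[R] N) ⧸ LinearMap.range incl) = 0 :=
        (Submodule.Quotient.mk_eq_zero _).2 (LinearMap.mem_range_self incl _)
      exact (congrArg χ h0).trans (map_zero χ)
    let ψ : S →ₗ[R] CharacterModule (S ⊗[R] N) := -((charLift σ N).comp (CharacterModule.curry ξ))
    have hfac : ξ = CharacterModule.dual (d.lTensor S) (CharacterModule.uncurry ψ) := by
      refine DFunLike.ext _ _ fun w => ?_
      induction w using TensorProduct.induction_on with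
      | zero => rw [map_zero, map_zero]
      | add a b ha hb => rw [map_add, map_add, ha, hb]
      | tmul s n =>
        show ξ (s ⊗ₜ[R] n) = -(charLift σ N (CharacterModule.curry ξ s) (c n - η n))
        rw [map_sub, show charLift σ N (CharacterModule.curry ξ s) (c n) = 0 from DFunLike.congr_fun (hξ s) n,
          zero_sub, neg_neg]
        exact (charLift_one σ hσ (CharacterModule.curry ξ s) n).symm
    apply hχ
    show ξ z = 0
    rw [hfac]
    show CharacterModule.uncurry ψ (d.lTensor S z) = 0
    rw [hz, map_zero]
  let θ := LinearMap.liftBaseChange S (fixed c).subtype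
  have hfix : ∀ m : fixed c, c m = (1 : S) ⊗ₜ[R] (m : N) := fun m =>
    sub_eq_zero.mp (m.2 : (c - TensorProduct.mk R S N 1) m = 0)
  have hθ : ∀ z, c (θ z) = incl z := fun z => by
    induction z using TensorProduct.induction_on with
    | zero => simp
    | tmul s m => simp [θ, incl, hc, hfix, smul_tmul']
    | add x y hx hy => simp only [map_add, hx, hy]
  have hmult : ∀ z, LinearMap.liftBaseChange S (LinearMap.id : N →ₗ[R] N) (incl z) = θ z := fun z => by
    induction z using TensorProduct.induction_on with
    | zero => simp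
    | tmul s m => simp [θ, incl]
    | add x y hx hy => simp only [map_add, hx, hy]
  refine ⟨fun a b h => hinj (by rw [← hθ a, ← hθ b]; exact congrArg c h), fun n => ?_⟩
  obtain ⟨w, hw⟩ := hex (c n) (by rw [LinearMap.lTensor_sub, LinearMap.sub_apply, hcc, sub_self])
  exact ⟨w, by rw [← hcu n, ← hw]; exact (hmult w).symm⟩

theorem surjective_of_lTensor_surjective (h : Pi1.UnivInjective R S) {M F : Type u} [AddCommGroup M] [Module R M]
    [AddCommGroup F] [Module R F] (j : M →ₗ[R] F) (hsurj : Function.Surjective (j.lTensor S)) :
    Function.Surjective j := fun y => by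
  have hzero : ∀ z, (LinearMap.range j).mkQ.lTensor S (j.lTensor S z) = 0 := fun z => by
    induction z using TensorProduct.induction_on with
    | zero => simp
    | tmul t m =>
      rw [LinearMap.lTensor_tmul, LinearMap.lTensor_tmul, Submodule.mkQ_apply,
        (Submodule.Quotient.mk_eq_zero _).2 (LinearMap.mem_range_self j m), tmul_zero]
    | add a b ha hb => rw [map_add, map_add, ha, hb, add_zero]
  obtain ⟨z, hz⟩ := hsurj ((1 : S) ⊗ₜ[R] y)
  have hq : TensorProduct.mk R S (F ⧸ LinearMap.range j) 1 (Submodule.Quotient.mk y) = 0 := by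
    have := hzero z
    rw [hz] at this
    exact this
  exact LinearMap.mem_range.1 ((Submodule.Quotient.mk_eq_zero _).1 (mk_injective h _ (hq.trans (map_zero _).symm)))

/-- The fixed part of a coaction is the image of any module generating it freely. -/
theorem exists_of_fixed_aux (h : Pi1.UnivInjective R S) (c : N →ₗ[R] S ⊗[R] N)
    (hc : ∀ (s : S) (n : N), c (s • n) = s • c n)
    (hcu : ∀ n, LinearMap.liftBaseChange S (LinearMap.id : N →ₗ[R] N) (c n) = n)
    (hcc : ∀ n, c.lTensor S (c n) = (TensorProduct.mk R S N 1).lTensor S (c n))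
    {M : Type u} [AddCommGroup M] [Module R M] (j₀ : M →ₗ[R] N) (hj : ∀ m, j₀ m ∈ fixed c)
    (hgen : Function.Surjective (LinearMap.liftBaseChange S j₀)) {x : N} (hx : x ∈ fixed c) :
    ∃ m, j₀ m = x := by
  let j : M →ₗ[R] fixed c := j₀.codRestrict (fixed c) hj
  have hθ := bijective_of_coaction_pure h c hc hcu hcc
  have hcomp : ∀ z, LinearMap.liftBaseChange S (fixed c).subtype (j.lTensor S z) = LinearMap.liftBaseChange S j₀ z :=
    fun z => by
      induction z using TensorProduct.induction_on with
      | zero => rw [map_zero, map_zero, map_zero]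
      | tmul t m => rw [LinearMap.lTensor_tmul, LinearMap.liftBaseChange_tmul, LinearMap.liftBaseChange_tmul]; rfl
      | add a b ha hb => rw [map_add, map_add, map_add, ha, hb]
  have hsurj : Function.Surjective (j.lTensor S) := fun w => by
    obtain ⟨z, hz⟩ := hgen (LinearMap.liftBaseChange S (fixed c).subtype w)
    exact ⟨z, hθ.1 ((hcomp z).trans hz)⟩
  obtain ⟨m, hm⟩ := surjective_of_lTensor_surjective h j hsurj ⟨x, hx⟩
  exact ⟨m, congrArg Subtype.val hm⟩

/-- A module is the fixed part of its extension of scalars. -/
theorem exists_of_fixed (h : Pi1.UnivInjective R S) {M : Type u} [AddCommGroup M] [Module R M] (x : S ⊗[R] M)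
    (hx : (TensorProduct.mk R S M 1).lTensor S x = (1 : S) ⊗ₜ[R] x) : ∃ m, (1 : S) ⊗ₜ[R] m = x := by
  refine exists_of_fixed_aux (N := S ⊗[R] M) h ((TensorProduct.mk R S M 1).lTensor S) (fun s n => ?_) (fun n => ?_)
    (fun n => ?_) (TensorProduct.mk R S M 1) (fun m => ?_) (fun z => ⟨z, ?_⟩) (x := x) (sub_eq_zero.mpr hx)
  · induction n using TensorProduct.induction_on with
    | zero => simp
    | tmul t m => simp [smul_tmul']
    | add a b ha hb => simp only [smul_add, map_add, ha, hb]
  · induction n using TensorProduct.induction_on with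
    | zero => simp
    | tmul t m => simp [smul_tmul']
    | add a b ha hb => simp only [map_add, ha, hb]
  · induction n using TensorProduct.induction_on with
    | zero => simp
    | tmul t m => simp
    | add a b ha hb => simp only [map_add, ha, hb]
  · exact sub_eq_zero.mpr (LinearMap.lTensor_tmul S (TensorProduct.mk R S M 1) (1 : S) m)
  · induction z using TensorProduct.induction_on with
    | zero => simp
    | tmul t m => simp [smul_tmul']
    | add a b ha hb => simp only [map_add, ha, hb]

end Groth.L19.ModDescent
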