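import Groth.Agent.L19.ModDescent.Pure
import Groth.Agent.L19.ModDescent.Effective

/-!
# Descent for modules along universally injective ring maps
-/

set_option autoImplicit false
set_option linter.style.haveILetI false

open CategoryTheory Opposite TensorProduct

universe u

namespace Groth.L19.ModDescent

variable {R S : Type u} [CommRing R] [CommRing S] [Algebra R S]

/-- The extension of scalars as a tensor product. -/
noncomputable def toTmul (M : ModuleCat.{u} R) : (ModuleCat.extendScalars (algebraMap R S)).obj M →+ S ⊗[R] M :=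
  liftEl (algebraMap R S) M
    { toFun := fun s => (TensorProduct.mk R S M s).toAddMonoidHom
      map_zero' := by ext m; exact zero_tmul _ _
      map_add' := fun s t => by ext m; exact add_tmul _ _ _ }
    fun r s m => by
      show (algebraMap R S r * s) ⊗ₜ[R] m = s ⊗ₜ[R] (r • m)
      rw [← Algebra.smul_def, smul_tmul]

theorem toTmul_el (M : ModuleCat.{u} R) (s : S) (m : M) :
    toTmul M (el (algebraMap R S) M s m) = s ⊗ₜ[R] m := rfl

/-- The tensor product as an extension of scalars. -/
noncomputable def ofTmul (M : ModuleCat.{u} R) : S ⊗[R] M →+ (ModuleCat.extendScalars (algebraMap R S)).obj M :=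
  TensorProduct.liftAddHom
    { toFun := fun s =>
        { toFun := fun m => el (algebraMap R S) M s m
          map_zero' := el_zero _ _ _
          map_add' := el_add _ _ _ }
      map_zero' := by ext m; exact zero_el _ _ _
      map_add' := fun s t => by ext m; exact add_el _ _ _ _ _ }
    fun r s m => by
      show el (algebraMap R S) M (r • s) m = el (algebraMap R S) M s (r • m)
      rw [el_smul, Algebra.smul_def]

theorem ofTmul_toTmul (M : ModuleCat.{u} R) (x : (ModuleCat.extendScalars (algebraMap R S)).obj M) :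
    ofTmul M (toTmul M x) = x := by
  induction x using el_induction (algebraMap R S) M with
  | h0 => rw [map_zero, map_zero]
  | ht s m => rfl
  | ha x y hx hy => rw [map_add, map_add, hx, hy]

theorem toTmul_injective (M : ModuleCat.{u} R) : Function.Injective (toTmul (S := S) M) :=
  Function.LeftInverse.injective (ofTmul_toTmul M)

theorem el_one_injective (h : Pi1.UnivInjective R S) (M : ModuleCat.{u} R) :
    Function.Injective (el (algebraMap R S) M 1) := fun a b hab =>
  mk_injective h M (congrArg (toTmul M) hab)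

theorem bijective_coact_pure (h : Pi1.UnivInjective R S) (E : Datum R S) [Module R E.N] [IsScalarTower R S E.N] :
    Function.Bijective (LinearMap.liftBaseChange S (fixed (coact E)).subtype) :=
  bijective_of_coaction_pure h _ (coact_smul E) (coact_counit E) (coact_coassoc E)

set_option backward.isDefEq.respectTransparency false in
set_option backward.isDefEq.respectTransparency.types false in
theorem effective_pure' {R S : Type u} [CommRing R] [CommRing S] (α : R →+* S)
    (h : letI := α.toAlgebra; Pi1.UnivInjective R S)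
    (D : Desc.ringModPF.{u}.DescentData (fun _ : PUnit.{u + 1} => (CommRingCat.ofHom α).op)) : ∃ M : ModuleCat.{u} R,
    Nonempty ((Desc.ringModPF.{u}.toDescentData (fun _ : PUnit.{u + 1} => (CommRingCat.ofHom α).op)).obj M ≅ D) := by
  letI : Algebra R S := α.toAlgebra
  letI : Module R (datum D).N := Module.compHom (datum D).N (algebraMap R S)
  haveI : IsScalarTower R S (datum D).N := IsScalarTower.of_algebraMap_smul fun _ _ => rfl
  let M : ModuleCat.{u} R := ModuleCat.of R (fixed (coact (datum D)))
  let f : S ⊗[R] fixed (coact (datum D)) →ₗ[S] (datum D).N :=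
    LinearMap.liftBaseChange S (fixed (coact (datum D))).subtype
  let θ0 := ModuleCat.ofHom f
  let θ : (ModuleCat.extendScalars (algebraMap R S)).obj M ⟶ (datum D).N := θ0
  haveI : IsIso θ := (ConcreteCategory.isIso_iff_bijective θ).mpr (bijective_coact_pure h (datum D))
  refine ⟨M, iso_of_single D M (asIso θ) ?_⟩
  intro U q g1 g2 h1 h2 e1 e2
  refine glue_base (base R S) q g1 g2 e1 e2 M (datum D).N θ θ rfl (dhom D q g1 g2 h1 h2) _ rfl ?_
  refine hom_ext fun x => ?_
  induction x using el_induction (algebraMap R S) M with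
  | h0 => simp only [el_zero, map_zero]
  | ht s m =>
    have hθ : ∀ t : S, θ (el (algebraMap R S) M t m) = t • (m : fixed (coact (datum D))).1 :=
      fun t => LinearMap.liftBaseChange_tmul _ _ _ _
    have hg : g1.unop.hom.comp (algebraMap R S) = g2.unop.hom.comp (algebraMap R S) :=
      congrArg (fun m => m.unop.hom) (h1.trans h2.symm)
    have hq : q = (CommRingCat.ofHom (g1.unop.hom.comp (algebraMap R S))).op := h1.symm
    have hm : dhom D q g1 g2 h1 h2 (el g1.unop.hom (datum D).N 1 (m : fixed (coact (datum D))).1) =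
        el g2.unop.hom (datum D).N 1 (m : fixed (coact (datum D))).1 := by
      subst hq
      exact hom_fixed (datum D) U g1.unop.hom g2.unop.hom hg m
    rw [ConcreteCategory.comp_apply, map_el]
    refine (congrArg (fun z => dhom D q g1 g2 h1 h2 (el g1.unop.hom (datum D).N 1 z)) (hθ s)).trans ?_
    rw [el_smul, mul_one, el_eq_smul, map_smul, hm,
      ConcreteCategory.comp_apply, ConcreteCategory.comp_apply, el_eq_smul (algebraMap R S) M s m]
    rw [← el_eq_smul (algebraMap R S) M s m]
    refine Eq.trans ?_ (congrArg (fun z => ((ModuleCat.extendScalars g2.unop.hom).map θ)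
      ((cmp (base R S) g2 q e2 M).hom z)) (cmp_inv (base R S) g1 q e1 M s m)).symm
    rw [el_eq_smul q.unop.hom M _ m, map_smul, map_smul, cmp_hom]
    exact congrArg (fun z => g1.unop.hom s • el g2.unop.hom (datum D).N 1 z) ((hθ 1).trans (one_smul S _)).symm
  | ha x y hx hy => rw [el_add, map_add, map_add, hx, hy]

theorem effective_pure (h : Pi1.UnivInjective R S)
    (D : Desc.ringModPF.{u}.DescentData (fun _ : PUnit.{u + 1} => base R S)) : ∃ M : ModuleCat.{u} R,
    Nonempty ((Desc.ringModPF.{u}.toDescentData (fun _ : PUnit.{u + 1} => base R S)).obj M ≅ D) :=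
  effective_pure' (algebraMap R S)
    (by rwa [show (algebraMap R S).toAlgebra = ‹Algebra R S› from Algebra.algebra_ext _ _ fun _ => rfl]) D

/-- The double extension of scalars as an iterated tensor product. -/
noncomputable def toTmul₂ (M : ModuleCat.{u} R) :
    (ModuleCat.extendScalars ((inL R).comp (algebraMap R S))).obj M →+ S ⊗[R] (S ⊗[R] M) :=
  liftEl _ M
    { toFun := fun b =>
        { toFun := fun m => TensorProduct.assoc R S S M (b ⊗ₜ[R] m)
          map_zero' := by rw [tmul_zero, map_zero]
          map_add' := fun m m' => by rw [tmul_add, map_add] }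
      map_zero' := by
        ext m
        show TensorProduct.assoc R S S M ((0 : S ⊗[R] S) ⊗ₜ[R] m) = 0
        rw [zero_tmul, map_zero]
      map_add' := fun b b' => by
        ext m
        show TensorProduct.assoc R S S M ((b + b') ⊗ₜ[R] m) = _
        rw [add_tmul, map_add]
        rfl }
    fun r b m => by
      show TensorProduct.assoc R S S M (((inL R).comp (algebraMap R S) r * b) ⊗ₜ[R] m) =
        TensorProduct.assoc R S S M (b ⊗ₜ[R] (r • m))
      rw [show (inL R).comp (algebraMap R S) r * b = r • b from (Algebra.smul_def r b).symm, smul_tmul]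

theorem toTmul₂_el (M : ModuleCat.{u} R) (b : S ⊗[R] S) (m : M) :
    toTmul₂ M (el ((inL R).comp (algebraMap R S)) M b m) = TensorProduct.assoc R S S M (b ⊗ₜ[R] m) := rfl

theorem toTmul₂_push_inL (M : ModuleCat.{u} R) (x : (ModuleCat.extendScalars (algebraMap R S)).obj M) :
    toTmul₂ M (push M (algebraMap R S) (inL R) ((inL R).comp (algebraMap R S)) rfl x) =
      (TensorProduct.mk R S M 1).lTensor S (toTmul M x) := by
  induction x using el_induction (algebraMap R S) M with
  | h0 => simp only [map_zero]
  | ht s m => rw [push_el, toTmul₂_el, toTmul_el, inL_apply, TensorProduct.assoc_tmul, LinearMap.lTensor_tmul]; rfl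
  | ha x y hx hy => simp only [map_add, hx, hy]

theorem toTmul₂_push_inR (M : ModuleCat.{u} R) (x : (ModuleCat.extendScalars (algebraMap R S)).obj M) :
    toTmul₂ M (push M (algebraMap R S) (inR R) ((inL R).comp (algebraMap R S)) (inL_comp R).symm x) =
      (1 : S) ⊗ₜ[R] toTmul M x := by
  induction x using el_induction (algebraMap R S) M with
  | h0 => simp only [map_zero, tmul_zero]
  | ht s m => rw [push_el, toTmul₂_el, toTmul_el, inR_apply, TensorProduct.assoc_tmul]
  | ha x y hx hy => simp only [map_add, tmul_add, hx, hy]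

set_option backward.isDefEq.respectTransparency false in
set_option backward.isDefEq.respectTransparency.types false in
theorem glue_hom {U W R₀ : CommRingCat.{u}} (f₀ : op W ⟶ op R₀) (q : op U ⟶ op R₀) (g1 g2 : op U ⟶ op W)
    (e1 : f₀.op.toLoc ≫ g1.op.toLoc = q.op.toLoc) (e2 : f₀.op.toLoc ≫ g2.op.toLoc = q.op.toLoc)
    (M M' : ModuleCat.{u} R₀)
    (θ' : (ModuleCat.extendScalars f₀.unop.hom).obj M ⟶ (ModuleCat.extendScalars f₀.unop.hom).obj M')
    (θ : (Desc.ringModPF.{u}.map f₀.op.toLoc).toFunctor.obj M ⟶ (Desc.ringModPF.{u}.map f₀.op.toLoc).toFunctor.obj M')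
    (hθ : θ' = θ)
    (h : (Desc.ringModPF.{u}.map g1.op.toLoc).toFunctor.map θ ≫
        (mcInv Desc.ringModPF.{u} f₀.op.toLoc g1.op.toLoc q.op.toLoc e1 M' ≫
          mcHom Desc.ringModPF.{u} f₀.op.toLoc g2.op.toLoc q.op.toLoc e2 M') =
      (mcInv Desc.ringModPF.{u} f₀.op.toLoc g1.op.toLoc q.op.toLoc e1 M ≫
          mcHom Desc.ringModPF.{u} f₀.op.toLoc g2.op.toLoc q.op.toLoc e2 M) ≫
        (Desc.ringModPF.{u}.map g2.op.toLoc).toFunctor.map θ) :
    (ModuleCat.extendScalars g1.unop.hom).map θ' ≫ ((cmp f₀ g1 q e1 M').inv ≫ (cmp f₀ g2 q e2 M').hom) =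
      ((cmp f₀ g1 q e1 M).inv ≫ (cmp f₀ g2 q e2 M).hom) ≫ (ModuleCat.extendScalars g2.unop.hom).map θ' := by
  subst hθ
  rw [cmp_inv_def, cmp_hom_def, cmp_inv_def, cmp_hom_def]
  exact h

theorem cmp_inv_eq_of_comm {U W R₀ : CommRingCat.{u}} (f₀ : op W ⟶ op R₀) (q : op U ⟶ op R₀) (g1 g2 : op U ⟶ op W)
    (e1 : f₀.op.toLoc ≫ g1.op.toLoc = q.op.toLoc) (e2 : f₀.op.toLoc ≫ g2.op.toLoc = q.op.toLoc)
    (M M' : ModuleCat.{u} R₀)
    (θ : (ModuleCat.extendScalars f₀.unop.hom).obj M ⟶ (ModuleCat.extendScalars f₀.unop.hom).obj M')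
    (h : (ModuleCat.extendScalars g1.unop.hom).map θ ≫ ((cmp f₀ g1 q e1 M').inv ≫ (cmp f₀ g2 q e2 M').hom) =
      ((cmp f₀ g1 q e1 M).inv ≫ (cmp f₀ g2 q e2 M).hom) ≫ (ModuleCat.extendScalars g2.unop.hom).map θ) (m : M) :
    (cmp f₀ g1 q e1 M').inv (el g1.unop.hom _ 1 (θ (el f₀.unop.hom M 1 m))) =
      (cmp f₀ g2 q e2 M').inv (el g2.unop.hom _ 1 (θ (el f₀.unop.hom M 1 m))) := by
  have h' := ConcreteCategory.congr_hom h (el g1.unop.hom _ 1 (el f₀.unop.hom M 1 m))
  rw [ConcreteCategory.comp_apply, ConcreteCategory.comp_apply, map_el, ConcreteCategory.comp_apply,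
    ConcreteCategory.comp_apply, cmp_inv, map_one, cmp_hom, map_el] at h'
  apply (cmp f₀ g2 q e2 M').toLinearEquiv.injective
  refine h'.trans ?_
  exact ((cmp f₀ g2 q e2 M').toLinearEquiv.apply_symm_apply _).symm

set_option backward.isDefEq.respectTransparency false in
set_option backward.isDefEq.respectTransparency.types false in
theorem comm_ofObj (M M' : ModuleCat.{u} R)
    (φ : (Desc.ringModPF.{u}.toDescentData (fun _ : PUnit.{u + 1} => base R S)).obj M ⟶
      (Desc.ringModPF.{u}.toDescentData (fun _ : PUnit.{u + 1} => base R S)).obj M')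
    {U : CommRingCat.{u}} (q : op U ⟶ op (CommRingCat.of R)) (g1 g2 : op U ⟶ op (CommRingCat.of S))
    (h1 : g1 ≫ base R S = q) (h2 : g2 ≫ base R S = q)
    (e1 : (base R S).op.toLoc ≫ g1.op.toLoc = q.op.toLoc) (e2 : (base R S).op.toLoc ≫ g2.op.toLoc = q.op.toLoc) :
    (Desc.ringModPF.{u}.map g1.op.toLoc).toFunctor.map (φ.hom PUnit.unit) ≫
        (mcInv Desc.ringModPF.{u} (base R S).op.toLoc g1.op.toLoc q.op.toLoc e1 M' ≫
          mcHom Desc.ringModPF.{u} (base R S).op.toLoc g2.op.toLoc q.op.toLoc e2 M') =
      (mcInv Desc.ringModPF.{u} (base R S).op.toLoc g1.op.toLoc q.op.toLoc e1 M ≫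
          mcHom Desc.ringModPF.{u} (base R S).op.toLoc g2.op.toLoc q.op.toLoc e2 M) ≫
        (Desc.ringModPF.{u}.map g2.op.toLoc).toFunctor.map (φ.hom PUnit.unit) :=
  φ.comm q (i₁ := PUnit.unit) (i₂ := PUnit.unit) g1 g2 h1 h2

set_option backward.isDefEq.respectTransparency false in
set_option backward.isDefEq.respectTransparency.types false in
/-- The underlying map of a morphism of canonical descent data. -/
noncomputable def underHom {M M' : ModuleCat.{u} R}
    (φ : (Desc.ringModPF.{u}.toDescentData (fun _ : PUnit.{u + 1} => base R S)).obj M ⟶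
      (Desc.ringModPF.{u}.toDescentData (fun _ : PUnit.{u + 1} => base R S)).obj M') :
    (ModuleCat.extendScalars (algebraMap R S)).obj M ⟶ (ModuleCat.extendScalars (algebraMap R S)).obj M' :=
  φ.hom PUnit.unit

set_option backward.isDefEq.respectTransparency false in
set_option backward.isDefEq.respectTransparency.types false in
theorem underHom_map {M M' : ModuleCat.{u} R} (g : M ⟶ M') :
    underHom ((Desc.ringModPF.{u}.toDescentData (fun _ : PUnit.{u + 1} => base R S)).map g) =
      (ModuleCat.extendScalars (algebraMap R S)).map g := rfl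

set_option backward.isDefEq.respectTransparency false in
set_option backward.isDefEq.respectTransparency.types false in
theorem underHom_injective {M M' : ModuleCat.{u} R} :
    Function.Injective (underHom (R := R) (S := S) (M := M) (M' := M')) := fun φ ψ hφψ =>
  Pseudofunctor.DescentData.hom_ext fun i => by cases i; exact hφψ

set_option backward.isDefEq.respectTransparency false in
set_option backward.isDefEq.respectTransparency.types false in
theorem exists_fixed_image (h : Pi1.UnivInjective R S) {M M' : ModuleCat.{u} R}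
    (φ : (Desc.ringModPF.{u}.toDescentData (fun _ : PUnit.{u + 1} => base R S)).obj M ⟶
      (Desc.ringModPF.{u}.toDescentData (fun _ : PUnit.{u + 1} => base R S)).obj M') (m : M) :
    ∃ m' : M', el (algebraMap R S) M' 1 m' = underHom φ (el (algebraMap R S) M 1 m) := by
  let g1 : op (CommRingCat.of (S ⊗[R] S)) ⟶ op (CommRingCat.of S) := (CommRingCat.ofHom (inL R)).op
  let g2 : op (CommRingCat.of (S ⊗[R] S)) ⟶ op (CommRingCat.of S) := (CommRingCat.ofHom (inR R)).op
  let q : op (CommRingCat.of (S ⊗[R] S)) ⟶ op (CommRingCat.of R) :=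
    (CommRingCat.ofHom ((inL R).comp (algebraMap R S))).op
  have h1 : g1 ≫ base R S = q := rfl
  have h2 : g2 ≫ base R S = q := by
    show (CommRingCat.ofHom ((inR R).comp (algebraMap R S))).op = q
    rw [← inL_comp]
  have e1 : (base R S).op.toLoc ≫ g1.op.toLoc = q.op.toLoc := congrArg (fun m => m.op.toLoc) h1
  have e2 : (base R S).op.toLoc ≫ g2.op.toLoc = q.op.toLoc := congrArg (fun m => m.op.toLoc) h2
  have key := cmp_inv_eq_of_comm (base R S) q g1 g2 e1 e2 M M' (underHom φ)
    (glue_hom (base R S) q g1 g2 e1 e2 M M' (underHom φ) (φ.hom PUnit.unit) rfl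
      (comm_ofObj M M' φ q g1 g2 h1 h2 e1 e2)) m
  rw [cmp_inv_push (base R S) g1 q e1 M' rfl, cmp_inv_push (base R S) g2 q e2 M' (inL_comp R).symm] at key
  obtain ⟨m', hm'⟩ := exists_of_fixed h (toTmul M' (underHom φ (el (algebraMap R S) M 1 m)))
    ((toTmul₂_push_inL M' _).symm.trans ((congrArg (toTmul₂ M') key).trans (toTmul₂_push_inR M' _)))
  exact ⟨m', toTmul_injective M' hm'⟩

theorem map_injective_of_univInjective (h : Pi1.UnivInjective R S) (M M' : ModuleCat.{u} R) (f g : M ⟶ M')
    (hfg : (ModuleCat.extendScalars (algebraMap R S)).map f = (ModuleCat.extendScalars (algebraMap R S)).map g) :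
    f = g :=
  ModuleCat.hom_ext (LinearMap.ext fun m => el_one_injective h M' (by
    have := ConcreteCategory.congr_hom hfg (el (algebraMap R S) M 1 m)
    rwa [map_el, map_el] at this))

theorem exists_preimage_of_univInjective (h : Pi1.UnivInjective R S) (M M' : ModuleCat.{u} R)
    (φ : (ModuleCat.extendScalars (algebraMap R S)).obj M ⟶ (ModuleCat.extendScalars (algebraMap R S)).obj M')
    (hφ : ∀ m : M, ∃ m' : M', el (algebraMap R S) M' 1 m' = φ (el (algebraMap R S) M 1 m)) :
    ∃ g : M ⟶ M', (ModuleCat.extendScalars (algebraMap R S)).map g = φ := by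
  choose g hg using hφ
  let g' : M ⟶ M' := ModuleCat.ofHom
    { toFun := g
      map_add' := fun a b => el_one_injective h M' (by rw [el_add, hg, hg, hg, el_add, map_add])
      map_smul' := fun r a => el_one_injective h M' (by
        rw [RingHom.id_apply, el_smul, hg, el_smul, el_eq_smul, map_smul, ← hg, ← el_eq_smul]) }
  exact ⟨g', hom_ext fun m => (map_el _ g' 1 m).trans (hg m)⟩

set_option backward.isDefEq.respectTransparency false in
set_option backward.isDefEq.respectTransparency.types false in
theorem faithful_of_univInjective (h : Pi1.UnivInjective R S) :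
    (Desc.ringModPF.{u}.toDescentData (fun _ : PUnit.{u + 1} => base R S)).Faithful :=
  ⟨fun {M M'} f g hfg => map_injective_of_univInjective h M M' f g
    ((underHom_map (R := R) (M := M) (M' := M') f).symm.trans ((congrArg underHom hfg).trans (underHom_map (R := R) (M := M) (M' := M') g)))⟩

set_option backward.isDefEq.respectTransparency false in
set_option backward.isDefEq.respectTransparency.types false in
theorem full_of_univInjective (h : Pi1.UnivInjective R S) :
    (Desc.ringModPF.{u}.toDescentData (fun _ : PUnit.{u + 1} => base R S)).Full :=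
  ⟨fun {M M'} φ => by
    obtain ⟨g, hg⟩ := exists_preimage_of_univInjective h M M' (underHom φ) (exists_fixed_image h φ)
    exact ⟨g, underHom_injective ((underHom_map (R := R) (M := M) (M' := M') g).trans hg)⟩⟩

theorem isEquivalence_of_univInjective (h : Pi1.UnivInjective R S) :
    (Desc.ringModPF.{u}.toDescentData (fun _ : PUnit.{u + 1} => base R S)).IsEquivalence :=
  { faithful := faithful_of_univInjective h
    full := full_of_univInjective h
    essSurj := ⟨fun D => effective_pure h D⟩ }

set_option backward.isDefEq.respectTransparency false in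
set_option backward.isDefEq.respectTransparency.types false in
theorem univInjective_of_faithful
    (hF : (Desc.ringModPF.{u}.toDescentData (fun _ : PUnit.{u + 1} => base R S)).Faithful) :
    Pi1.UnivInjective R S := by
  intro P _ _
  have hker : ∀ p : P, (1 : S) ⊗ₜ[R] p = 0 → p = 0 := fun p hp => by
    let K : Submodule R P := LinearMap.ker (TensorProduct.mk R S P 1)
    let ι : ModuleCat.of R K ⟶ ModuleCat.of R P := ModuleCat.ofHom K.subtype
    have h0 : ι = 0 := hF.map_injective (underHom_injective ((underHom_map ι).trans (Eq.trans (hom_ext fun k =>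
      toTmul_injective _ ((congrArg (toTmul _) (map_el _ ι 1 k)).trans
        ((show (1 : S) ⊗ₜ[R] (k : P) = 0 from k.2).trans
          ((map_zero (toTmul (ModuleCat.of R P))).symm.trans (congrArg (toTmul _)
            ((map_el _ (0 : ModuleCat.of R K ⟶ ModuleCat.of R P) 1 k).trans (el_zero _ _ _)).symm)))))
      (underHom_map (0 : ModuleCat.of R K ⟶ ModuleCat.of R P)).symm)))
    exact ConcreteCategory.congr_hom h0 (⟨p, hp⟩ : K)
  rw [injective_iff_map_eq_zero]
  intro z hz
  obtain ⟨p, rfl⟩ : ∃ p : P, p ⊗ₜ[R] (1 : R) = z :=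
    ⟨TensorProduct.rid R P z, (TensorProduct.rid R P).symm_apply_apply z⟩
  rw [LinearMap.lTensor_tmul, Algebra.linearMap_apply, map_one] at hz
  rw [hker p (by simpa using congrArg (TensorProduct.comm R P S) hz), zero_tmul]

end Groth.L19.ModDescent
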