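import Groth.Agent.L19.ModDescent.Elements

/-!
# Moving elements of extensions of scalars along ring maps
-/

set_option autoImplicit false
set_option linter.style.haveILetI false

open CategoryTheory TensorProduct

universe u

namespace Groth.L19.ModDescent

variable {R S U V : Type u} [CommRing R] [CommRing S] [CommRing U] [CommRing V]

/-- `b ⊗ n ↦ k b ⊗ n`. -/
noncomputable def push (N : ModuleCat.{u} S) (g : S →+* U) (k : U →+* V) (G : S →+* V) (e : k.comp g = G) :
    (ModuleCat.extendScalars g).obj N →+ (ModuleCat.extendScalars G).obj N :=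
  liftEl g N
    { toFun := fun b =>
        { toFun := fun n => el G N (k b) n
          map_zero' := el_zero _ _ _
          map_add' := el_add _ _ _ }
      map_zero' := by ext n; simp [zero_el]
      map_add' := fun b b' => by ext n; simp [add_el] }
    fun s b n => by
      show el G N (k (g s * b)) n = el G N (k b) (s • n)
      rw [el_smul, map_mul, ← e, RingHom.comp_apply]

theorem push_el (N : ModuleCat.{u} S) (g : S →+* U) (k : U →+* V) (G : S →+* V) (e : k.comp g = G) (b : U) (n : N) :
    push N g k G e (el g N b n) = el G N (k b) n := rfl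

variable [Algebra R S]

variable (R S) in
/-- A descent datum for modules along `R → S`, in elements. -/
structure Datum where
  /-- the module -/
  N : ModuleCat.{u} S
  /-- the comparison maps -/
  hom (U : Type u) [CommRing U] (g1 g2 : S →+* U) :
    g1.comp (algebraMap R S) = g2.comp (algebraMap R S) →
      ((ModuleCat.extendScalars g1).obj N ⟶ (ModuleCat.extendScalars g2).obj N)
  self (U : Type u) [CommRing U] (g : S →+* U) (z : (ModuleCat.extendScalars g).obj N) : hom U g g rfl z = z
  comp (U : Type u) [CommRing U] (g1 g2 g3 : S →+* U)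
    (h12 : g1.comp (algebraMap R S) = g2.comp (algebraMap R S))
    (h23 : g2.comp (algebraMap R S) = g3.comp (algebraMap R S))
    (z : (ModuleCat.extendScalars g1).obj N) :
    hom U g2 g3 h23 (hom U g1 g2 h12 z) = hom U g1 g3 (h12.trans h23) z
  pull (U V : Type u) [CommRing U] [CommRing V] (k : U →+* V) (g1 g2 : S →+* U) (G1 G2 : S →+* V)
    (_e1 : k.comp g1 = G1) (e2 : k.comp g2 = G2)
    (h : g1.comp (algebraMap R S) = g2.comp (algebraMap R S))
    (H : G1.comp (algebraMap R S) = G2.comp (algebraMap R S)) (n : N) :
    hom V G1 G2 H (el G1 N 1 n) = push N g2 k G2 e2 (hom U g1 g2 h (el g1 N 1 n))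

end Groth.L19.ModDescent
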